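import Mathlib

/-!
# S3174 (architect helper19), Part IV (sub-architect helper12): `Z(W) = Z₃` — definitions

Everything is INTERNAL to the finite 2-group `T` (no quotient groups).  Conventions (blueprint
`notes/S3174_blueprint_helper19.md`): `cj w t = w^t = t⁻¹ w t`, `cm a b = [a,b] = a⁻¹ b⁻¹ a b = a⁻¹ a^b`.

`Cfg Z2 Z3 Y1 Y W T1 T2 z s x` bundles the outputs of Parts I–III that Part IV uses: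
`Z2 = Z₂(T) ≤ Z3 = Z₃(T) = W' = Φ(W) ≤ Y = Z₄(T) ≤ Y1 ≤ W = C_T(Z₃) < T1 < T2 < T`, `T2 = C_T(Z₂)`,
`T/W ≅ D₈` with centre `T1/W = ⟨zW⟩`, `T2/W ≅ V₄`, `s ∈ T2 ∖ T1`, `x ∈ T ∖ T2` with `x² ∈ zW`;
`Y1 = {w ∈ W : [w,T1] ≤ Z3}`, `Y = {w ∈ W : [w,T] ≤ Z3}`; the three equalities `image = kernel` of I.7
(`hE1`, `hE2`, `hE3`); `|W : Z3| = 2^8`, `|Y1 : Z3| = 2^4`, `|Y : Z3| = 2`, `|Z3 : Z2| = 2`; and II.1 (`hII1`).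
-/

set_option autoImplicit false

namespace Cfsg.Agent.Lib.Helper12.RU4

variable {T : Type*} [Group T]

/-- `w^t = t⁻¹ w t`. -/
def cj (w t : T) : T := t⁻¹ * w * t

/-- `[a,b] = a⁻¹ b⁻¹ a b = a⁻¹ a^b`. -/
def cm (a b : T) : T := a⁻¹ * b⁻¹ * a * b

/-- The outputs of Parts I–III used by Part IV. -/
structure Cfg (Z2 Z3 Y1 Y W T1 T2 : Subgroup T) (z s x : T) : Prop where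
  hZ23 : Z2 ≤ Z3
  hZ3W : Z3 ≤ W
  hWT1 : W ≤ T1
  hT12 : T1 ≤ T2
  hZ2n : Z2.Normal
  hZ3n : Z3.Normal
  hWn : W.Normal
  hT1n : T1.Normal
  hT2n : T2.Normal
  /-- `Z3 ≤ Z(W)`. -/
  hZ3c : ∀ c ∈ Z3, ∀ w ∈ W, c * w = w * c
  /-- `Z3` has exponent 2. -/
  hZ3sq : ∀ c ∈ Z3, c * c = 1
  /-- `W' ≤ Z3`. -/
  hcomm : ∀ u ∈ W, ∀ v ∈ W, cm u v ∈ Z3
  /-- squares of `W` lie in `Z3`. -/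
  hsq : ∀ w ∈ W, w * w ∈ Z3
  /-- `[Z3, T] ≤ Z2`. -/
  hZ3T : ∀ c ∈ Z3, ∀ t : T, cm c t ∈ Z2
  /-- `T2` centralizes `Z2`. -/
  hZ2T2 : ∀ c ∈ Z2, ∀ t ∈ T2, c * t = t * c
  /-- `|Z3 : Z2| = 2`. -/
  hZ32 : ∃ a ∈ Z3, a ∉ Z2 ∧ ∀ c ∈ Z3, c ∈ Z2 ∨ a⁻¹ * c ∈ Z2
  /-- `C_T(Z3) ≤ W`. -/
  hWcen : ∀ t : T, (∀ c ∈ Z3, c * t = t * c) → t ∈ W
  hz : z ∈ T1
  hzW : z ∉ W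
  /-- `T1 = W ∪ zW`. -/
  hT1 : ∀ t ∈ T1, t ∈ W ∨ z⁻¹ * t ∈ W
  hs : s ∈ T2
  hsT1 : s ∉ T1
  /-- `T2 = T1 ∪ sT1`. -/
  hT2 : ∀ t ∈ T2, t ∈ T1 ∨ s⁻¹ * t ∈ T1
  hxT2 : x ∉ T2
  /-- `T = T2 ∪ xT2`. -/
  hT : ∀ t : T, t ∈ T2 ∨ x⁻¹ * t ∈ T2
  /-- `T2/W` has exponent 2. -/
  hT2sq : ∀ t ∈ T2, t * t ∈ W
  /-- `T1/W` is central in `T/W`. -/
  hT1c : ∀ y ∈ T1, ∀ t : T, cm y t ∈ W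
  /-- `[T2, T] ≤ T1`. -/
  hT2c : ∀ y ∈ T2, ∀ t : T, cm y t ∈ T1
  /-- `x² ∈ zW`. -/
  hx2 : z⁻¹ * (x * x) ∈ W
  hY1 : ∀ w : T, w ∈ Y1 ↔ w ∈ W ∧ ∀ y ∈ T1, cm w y ∈ Z3
  hY : ∀ w : T, w ∈ Y ↔ w ∈ W ∧ ∀ t : T, cm w t ∈ Z3
  /-- `|Y : Z3| = 2`. -/
  hYZ3 : ∃ y ∈ Y, y ∉ Z3 ∧ ∀ c ∈ Y, c ∈ Z3 ∨ y⁻¹ * c ∈ Z3
  /-- I.7, first step: `Y1 / Z3 ⊆ [W, z] Z3 / Z3`. -/
  hE1 : ∀ v ∈ W, (∀ y ∈ T1, cm v y ∈ Z3) → ∃ u ∈ W, (cm u z)⁻¹ * v ∈ Z3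
  /-- I.7, second step. -/
  hE2 : ∀ v ∈ W, (∀ y ∈ T2, cm v y ∈ Z3) → ∃ u ∈ W, (∀ y ∈ T1, cm u y ∈ Z3) ∧ (cm u s)⁻¹ * v ∈ Z3
  /-- I.7, third step. -/
  hE3 : ∀ v ∈ W, (∀ t : T, cm v t ∈ Z3) → ∃ u ∈ W, (∀ y ∈ T2, cm u y ∈ Z3) ∧ (cm u x)⁻¹ * v ∈ Z3
  /-- `|W : Z3| = 2^8`. -/
  hcardW : Nat.card ↥W = 2 ^ 8 * Nat.card ↥Z3
  /-- `|Y1 : Z3| = 2^4`. -/
  hcardY1 : Nat.card ↥Y1 = 2 ^ 4 * Nat.card ↥Z3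
  /-- II.1: `Z3 ≤ Φ(U)` for `U ≤ W` of index at most 8. -/
  hII1 : ∀ U : Subgroup T, U ≤ W → Nat.card ↥W ≤ 8 * Nat.card ↥U →
    Z3 ≤ (frattini ↥U).map U.subtype

end Cfsg.Agent.Lib.Helper12.RU4
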