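import Cfsg.Agent.Lib.Helper12.RU4.Defs

/-! S3174 Part IV, file A01 (helper12, complete): pure identities for `cj`, `cm`, the norm elements `n1 n2 n3`,
and closure of the normal subgroups of a `Cfg` under `cj`. -/

set_option autoImplicit false

namespace Cfsg.Agent.Lib.Helper12.RU4

variable {T : Type*} [Group T]

theorem cj_mul (a b t : T) : cj (a * b) t = cj a t * cj b t := by
  simp only [cj]; group

theorem cj_cj (w a b : T) : cj (cj w a) b = cj w (a * b) := by
  simp only [cj]; group

theorem cj_inv (a t : T) : cj a⁻¹ t = (cj a t)⁻¹ := by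
  simp only [cj]; group

theorem cj_one_right (w : T) : cj w 1 = w := by
  simp only [cj]; group

theorem cj_one_left (t : T) : cj 1 t = 1 := by
  simp only [cj]; group

theorem cm_eq (a b : T) : cm a b = a⁻¹ * cj a b := by
  simp only [cj, cm]; group

theorem cj_eq (a b : T) : cj a b = a * cm a b := by
  simp only [cj, cm]; group

theorem cj_cm (a b t : T) : cj (cm a b) t = cm (cj a t) (cj b t) := by
  simp only [cj, cm]; group

theorem cm_inv_swap (a b : T) : (cm a b)⁻¹ = cm b a := by
  simp only [cm]; group

theorem cm_self (a : T) : cm a a = 1 := by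
  simp only [cm]; group

theorem cm_one_left (a : T) : cm 1 a = 1 := by
  simp only [cm]; group

theorem cm_one_right (a : T) : cm a 1 = 1 := by
  simp only [cm]; group

theorem mul_eq_cm (a b : T) : a * b = b * a * cm a b := by
  simp only [cm]; group

/-- the partial norms of the blueprint's IV.2: `n1 = w w^z`, `n2 = n1 n1^s`, `n3 = n2 n2^x`. -/
def n1 (z w : T) : T := w * cj w z
def n2 (z s w : T) : T := n1 z w * cj (n1 z w) s
def n3 (z s x w : T) : T := n2 z s w * cj (n2 z s w) x

theorem cj_mem_of_normal {N : Subgroup T} (hN : N.Normal) {a : T} (ha : a ∈ N) (t : T) : cj a t ∈ N := by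
  have := hN.conj_mem a ha t⁻¹
  simpa [cj] using this

theorem cm_mem_of_normal {N : Subgroup T} (hN : N.Normal) {a : T} (ha : a ∈ N) (t : T) : cm a t ∈ N := by
  rw [cm_eq]
  exact N.mul_mem (N.inv_mem ha) (cj_mem_of_normal hN ha t)

theorem cm_mem_of_normal' {N : Subgroup T} (hN : N.Normal) (t : T) {a : T} (ha : a ∈ N) : cm t a ∈ N := by
  rw [← cm_inv_swap]
  exact N.inv_mem (cm_mem_of_normal hN ha t)

end Cfsg.Agent.Lib.Helper12.RU4
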