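import Cfsg.Agent.Lib.Helper12.RU4.A01

/-! S3174 Part IV leaf A03 (EASY-MEDIUM): class-2 calculus in `W`.
`W' ≤ Z3 ≤ Z(W)`, `Z3` of exponent 2.  RECIPE: unfold `cm`; e.g. for `cm_mul_left`:
`cm (u*u') v = u'⁻¹ * (cm u v) * u' * cm u' v` (pure identity, `group`), then `cm u v ∈ Z3` (`h.hcomm`) commutes with
`u' ∈ W` (`h.hZ3c`).  `cm_swap`: `cm v u = (cm u v)⁻¹` (`cm_inv_swap`) and `c⁻¹ = c` for `c ∈ Z3` (`h.hZ3sq`).
`sq_mul`: `(a*b)*(a*b) = a*a*(b*b)*cm b a * (correction)`: write `b*a = a*b*cm b a` (`mul_eq_cm`), the commutator is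
central in `W`.  Useful: `cm_eq`, `cj_eq`, `mul_eq_cm`, `cm_inv_swap` from A01. -/

set_option autoImplicit false

namespace Cfsg.Agent.Lib.Helper12.RU4

variable {T : Type*} [Group T] {Z2 Z3 Y1 Y W T1 T2 : Subgroup T} {z s x : T}

theorem inv_eq_self_of_mem_Z3 (h : Cfg Z2 Z3 Y1 Y W T1 T2 z s x) {c : T} (hc : c ∈ Z3) : c⁻¹ = c :=
  inv_eq_of_mul_eq_one_left (h.hZ3sq c hc)

theorem cm_mul_left (h : Cfg Z2 Z3 Y1 Y W T1 T2 z s x) {u u' v : T} (hu : u ∈ W) (hu' : u' ∈ W)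
    (hv : v ∈ W) : cm (u * u') v = cm u v * cm u' v := by
  have h1 : cm (u * u') v = u'⁻¹ * cm u v * u' * cm u' v := by simp only [cm]; group
  have h2 : cm u v * u' = u' * cm u v := h.hZ3c _ (h.hcomm u hu v hv) u' hu'
  rw [h1]
  calc u'⁻¹ * cm u v * u' * cm u' v = u'⁻¹ * (cm u v * u') * cm u' v := by group
    _ = u'⁻¹ * (u' * cm u v) * cm u' v := by rw [h2]
    _ = cm u v * cm u' v := by group

theorem cm_mul_right (h : Cfg Z2 Z3 Y1 Y W T1 T2 z s x) {u v v' : T} (hu : u ∈ W) (hv : v ∈ W)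
    (hv' : v' ∈ W) : cm u (v * v') = cm u v * cm u v' := by
  have h1 : cm u (v * v') = cm u v' * (v'⁻¹ * cm u v * v') := by simp only [cm]; group
  have h2 : cm u v * v' = v' * cm u v := h.hZ3c _ (h.hcomm u hu v hv) v' hv'
  have h3 : cm u v * cm u v' = cm u v' * cm u v :=
    h.hZ3c _ (h.hcomm u hu v hv) _ (h.hZ3W (h.hcomm u hu v' hv'))
  rw [h1, h3]
  calc cm u v' * (v'⁻¹ * cm u v * v') = cm u v' * (v'⁻¹ * (cm u v * v')) := by group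
    _ = cm u v' * (v'⁻¹ * (v' * cm u v)) := by rw [h2]
    _ = cm u v' * cm u v := by group

theorem cm_Z3_left (h : Cfg Z2 Z3 Y1 Y W T1 T2 z s x) {c v : T} (hc : c ∈ Z3) (hv : v ∈ W) :
    cm c v = 1 := by
  have h1 := h.hZ3c c hc v hv
  calc cm c v = c⁻¹ * v⁻¹ * (c * v) := by simp only [cm]; group
    _ = c⁻¹ * v⁻¹ * (v * c) := by rw [h1]
    _ = 1 := by group

theorem cm_Z3_right (h : Cfg Z2 Z3 Y1 Y W T1 T2 z s x) {c v : T} (hv : v ∈ W) (hc : c ∈ Z3) :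
    cm v c = 1 := by
  have h1 := h.hZ3c c hc v hv
  calc cm v c = v⁻¹ * c⁻¹ * (v * c) := by simp only [cm]; group
    _ = v⁻¹ * c⁻¹ * (c * v) := by rw [h1]
    _ = 1 := by group

theorem cm_swap (h : Cfg Z2 Z3 Y1 Y W T1 T2 z s x) {u v : T} (hu : u ∈ W) (hv : v ∈ W) :
    cm v u = cm u v := by
  rw [← cm_inv_swap u v]
  exact inv_eq_self_of_mem_Z3 h (h.hcomm u hu v hv)

theorem cm_inv_left (h : Cfg Z2 Z3 Y1 Y W T1 T2 z s x) {u v : T} (hu : u ∈ W) (hv : v ∈ W) :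
    cm u⁻¹ v = cm u v := by
  have h1 := cm_mul_left h hu (W.inv_mem hu) hv
  rw [mul_inv_cancel, cm_one_left] at h1
  have h2 : cm u⁻¹ v = (cm u v)⁻¹ := by
    rw [eq_inv_iff_mul_eq_one, mul_comm_of_Z3 h hu hv]
    exact h1.symm
  rw [h2]
  exact inv_eq_self_of_mem_Z3 h (h.hcomm u hu v hv)
where
  mul_comm_of_Z3 (h : Cfg Z2 Z3 Y1 Y W T1 T2 z s x) {u v : T} (hu : u ∈ W) (hv : v ∈ W) :
      cm u⁻¹ v * cm u v = cm u v * cm u⁻¹ v :=
    (h.hZ3c _ (h.hcomm u hu v hv) _ (h.hZ3W (h.hcomm _ (W.inv_mem hu) v hv))).symm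

theorem cm_inv_right (h : Cfg Z2 Z3 Y1 Y W T1 T2 z s x) {u v : T} (hu : u ∈ W) (hv : v ∈ W) :
    cm u v⁻¹ = cm u v := by
  rw [cm_swap h (W.inv_mem hv) hu, cm_inv_left h hv hu]
  exact cm_swap h hu hv

/-- `(ab)² = a² b² [b,a]`. -/
theorem sq_mul (h : Cfg Z2 Z3 Y1 Y W T1 T2 z s x) {a b : T} (ha : a ∈ W) (hb : b ∈ W) :
    (a * b) * (a * b) = a * a * (b * b) * cm b a := by
  have h1 : cm b a * b = b * cm b a := h.hZ3c _ (h.hcomm b hb a ha) b hb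
  calc (a * b) * (a * b) = a * (b * a) * b := by group
    _ = a * (a * b * cm b a) * b := by rw [← mul_eq_cm b a]
    _ = a * a * b * (cm b a * b) := by group
    _ = a * a * b * (b * cm b a) := by rw [h1]
    _ = a * a * (b * b) * cm b a := by group

end Cfsg.Agent.Lib.Helper12.RU4
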