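import Cfsg.Agent.Lib.Helper12.RU4.A01

/-! S3174 Part IV leaf A04 (EASY): congruences modulo `Z2` inside `Z3`.
`cj_Z3_mod` is `h.hZ3T` rewritten with `cm_eq`.  `Z2_of_two`: from `h.hZ32` (`a ∈ Z3 ∖ Z2`, every `c ∈ Z3` is in `Z2` or
`a⁻¹ c ∈ Z2`): `c = a c₁`, `d = a d₁`, `c d = a a c₁' d₁ = ...`; `Z3` is abelian of exponent 2 (`h.hZ3c` with `h.hZ3W`,
`h.hZ3sq`) so `c * d = (a⁻¹ c) * (a⁻¹ d)`.  `cm_cj_mod`: `cm (cj u t) (cj v t) = cj (cm u v) t` (`cj_cm`), `cm u v ∈ Z3`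
(`h.hcomm`), then `cj_Z3_mod`.  `Z2_mul_iff`: in the group `Z3/Z2` of order 2. -/

set_option autoImplicit false

namespace Cfsg.Agent.Lib.Helper12.RU4

variable {T : Type*} [Group T] {Z2 Z3 Y1 Y W T1 T2 : Subgroup T} {z s x : T}

theorem cj_Z3_mod (h : Cfg Z2 Z3 Y1 Y W T1 T2 z s x) {c : T} (hc : c ∈ Z3) (t : T) :
    c⁻¹ * cj c t ∈ Z2 := by
  rw [← cm_eq]
  exact h.hZ3T c hc t

namespace A04

theorem Z3_comm (h : Cfg Z2 Z3 Y1 Y W T1 T2 z s x) {c d : T} (hc : c ∈ Z3) (hd : d ∈ Z3) :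
    c * d = d * c := h.hZ3c c hc d (h.hZ3W hd)

theorem Z3_inv (h : Cfg Z2 Z3 Y1 Y W T1 T2 z s x) {c : T} (hc : c ∈ Z3) : c⁻¹ = c :=
  inv_eq_of_mul_eq_one_left (h.hZ3sq c hc)

end A04

/-- `|Z3 : Z2| = 2`: the product of two elements of `Z3 ∖ Z2` lies in `Z2`. -/
theorem Z2_of_two (h : Cfg Z2 Z3 Y1 Y W T1 T2 z s x) {c d : T} (hc : c ∈ Z3) (hd : d ∈ Z3)
    (hc2 : c ∉ Z2) (hd2 : d ∉ Z2) : c * d ∈ Z2 := by
  obtain ⟨a, ha, -, hall⟩ := h.hZ32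
  have h1 : a⁻¹ * c ∈ Z2 := (hall c hc).resolve_left hc2
  have h2 : a⁻¹ * d ∈ Z2 := (hall d hd).resolve_left hd2
  have hainv : a⁻¹ = a := A04.Z3_inv h ha
  have haa : a * a = 1 := h.hZ3sq a ha
  have hca : c * a = a * c := A04.Z3_comm h hc ha
  have : c * d = (a⁻¹ * c) * (a⁻¹ * d) := by
    rw [hainv]
    calc c * d = (a * a) * c * d := by rw [haa]; group
      _ = a * (a * c) * d := by group
      _ = a * (c * a) * d := by rw [hca]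
      _ = (a * c) * (a * d) := by group
  rw [this]
  exact Z2.mul_mem h1 h2

/-- for `c, d ∈ Z3`: `c * d ∈ Z2 ↔ (c ∈ Z2 ↔ d ∈ Z2)`. -/
theorem Z2_mul_iff (h : Cfg Z2 Z3 Y1 Y W T1 T2 z s x) {c d : T} (hc : c ∈ Z3) (hd : d ∈ Z3) :
    c * d ∈ Z2 ↔ (c ∈ Z2 ↔ d ∈ Z2) := by
  constructor
  · intro hcd
    constructor
    · intro hc2
      have : d = c⁻¹ * (c * d) := by group
      rw [this]; exact Z2.mul_mem (Z2.inv_mem hc2) hcd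
    · intro hd2
      have : c = (c * d) * d⁻¹ := by group
      rw [this]; exact Z2.mul_mem hcd (Z2.inv_mem hd2)
  · intro hiff
    by_cases hc2 : c ∈ Z2
    · exact Z2.mul_mem hc2 (hiff.mp hc2)
    · have hd2 : d ∉ Z2 := fun hd2 => hc2 (hiff.mpr hd2)
      exact Z2_of_two h hc hd hc2 hd2

/-- for `c, d ∈ Z3`: `c⁻¹ * d ∈ Z2 ↔ c * d ∈ Z2` (exponent 2). -/
theorem Z2_inv_mul_iff (h : Cfg Z2 Z3 Y1 Y W T1 T2 z s x) {c d : T} (hc : c ∈ Z3) (hd : d ∈ Z3) :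
    c⁻¹ * d ∈ Z2 ↔ c * d ∈ Z2 := by
  rw [A04.Z3_inv h hc]

/-- `T`-invariance of the form `B(u,v) = [u,v] Z2`. -/
theorem cm_cj_mod (h : Cfg Z2 Z3 Y1 Y W T1 T2 z s x) {u v : T} (hu : u ∈ W) (hv : v ∈ W) (t : T) :
    (cm u v)⁻¹ * cm (cj u t) (cj v t) ∈ Z2 := by
  rw [← cj_cm]
  exact cj_Z3_mod h (h.hcomm u hu v hv) t

end Cfsg.Agent.Lib.Helper12.RU4
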