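import Cfsg.Agent.Lib.Helper12.RU4.A01

/-! S3174 Part IV leaf A05 (EASY-MEDIUM): `v ↦ [v,t]` is a homomorphism `W → W` modulo `Z3`.
`W ⊴ T` (`h.hWn`), `Z3 ⊴ T` (`h.hZ3n`), `W/Z3` abelian (`h.hcomm`).  RECIPE for `cm_mul_mod`:
`cm (a*b) t = b⁻¹ * cm a t * b * cm b t` (pure identity, `group`) and `b⁻¹ * c * b = c * cm c b` with `cm c b ∈ Z3` for
`c = cm a t ∈ W` (`cm_mem_of_normal h.hWn`).  `cm_congr_mod`: special case `b = c ∈ Z3`, `cm c t ∈ Z3` (`Z3 ⊴ T`). -/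

set_option autoImplicit false

namespace Cfsg.Agent.Lib.Helper12.RU4

variable {T : Type*} [Group T] {Z2 Z3 Y1 Y W T1 T2 : Subgroup T} {z s x : T}

theorem cj_W_mod (h : Cfg Z2 Z3 Y1 Y W T1 T2 z s x) {w u : T} (hw : w ∈ W) (hu : u ∈ W) :
    w⁻¹ * cj w u ∈ Z3 := by
  rw [← cm_eq]
  exact h.hcomm w hw u hu

theorem cm_mul_mod (h : Cfg Z2 Z3 Y1 Y W T1 T2 z s x) {a b : T} (ha : a ∈ W) (hb : b ∈ W) (t : T) :
    (cm a t * cm b t)⁻¹ * cm (a * b) t ∈ Z3 := by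
  have hc : cm a t ∈ W := cm_mem_of_normal h.hWn ha t
  have hd : cm b t ∈ W := cm_mem_of_normal h.hWn hb t
  have h1 : cm (a * b) t = cm a t * cm (cm a t) b * cm b t := by simp only [cm]; group
  have h2 : cm (cm a t) b ∈ Z3 := h.hcomm _ hc b hb
  have h3 : cm (cm a t) b * cm b t = cm b t * cm (cm a t) b := h.hZ3c _ h2 _ hd
  have h4 : (cm a t * cm b t)⁻¹ * cm (a * b) t = cm (cm a t) b := by
    rw [h1]
    calc (cm a t * cm b t)⁻¹ * (cm a t * cm (cm a t) b * cm b t)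
        = (cm b t)⁻¹ * (cm (cm a t) b * cm b t) := by group
      _ = (cm b t)⁻¹ * (cm b t * cm (cm a t) b) := by rw [h3]
      _ = cm (cm a t) b := by group
  rw [h4]; exact h2

theorem cm_congr_mod (h : Cfg Z2 Z3 Y1 Y W T1 T2 z s x) {a c : T} (ha : a ∈ W) (hc : c ∈ Z3) (t : T) :
    (cm a t)⁻¹ * cm (a * c) t ∈ Z3 := by
  have h1 := cm_mul_mod h ha (h.hZ3W hc) t
  have h2 : cm c t ∈ Z3 := cm_mem_of_normal h.hZ3n hc t
  have h3 : (cm a t)⁻¹ * cm (a * c) t = cm c t * ((cm a t * cm c t)⁻¹ * cm (a * c) t) := by group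
  rw [h3]
  exact Z3.mul_mem h2 h1

/-- if `a ≡ b mod Z3` (both in `W`) then `[a,t] ≡ [b,t] mod Z3`. -/
theorem cm_congr_mod' (h : Cfg Z2 Z3 Y1 Y W T1 T2 z s x) {a b : T} (ha : a ∈ W) (hb : b ∈ W)
    (hab : a⁻¹ * b ∈ Z3) (t : T) : (cm a t)⁻¹ * cm b t ∈ Z3 := by
  have h1 := cm_congr_mod h ha hab t
  have h2 : a * (a⁻¹ * b) = b := by group
  rwa [h2] at h1

/-- `cj` respects congruence modulo `Z3`. -/
theorem cj_congr_mod (h : Cfg Z2 Z3 Y1 Y W T1 T2 z s x) {a b : T} (hab : a⁻¹ * b ∈ Z3) (t : T) :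
    (cj a t)⁻¹ * cj b t ∈ Z3 := by
  have h1 : (cj a t)⁻¹ * cj b t = cj (a⁻¹ * b) t := by simp only [cj]; group
  rw [h1]
  exact cj_mem_of_normal h.hZ3n hab t

end Cfsg.Agent.Lib.Helper12.RU4
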