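import Cfsg.Agent.Lib.Helper12.RU4.A01

/-! S3174 Part IV leaf B01 (MEDIUM, pure p-group lemma, blueprint IV.1): in a finite `p`-group `T`, if `N ≤ M` are normal
subgroups and `M ⊄ N`, some `c ∈ M ∖ N` has `[c,T] ≤ N`.
RECIPE: `T` is nilpotent (`IsPGroup.isNilpotent`), so `upperCentralSeries T n = ⊤` for some `n`
(`Group.IsNilpotent.nilpotent`/`nilpotent_iff_finite_ascending_central_series`); by `Nat.find` take the least `i` with
`∃ c ∈ M, c ∈ upperCentralSeries T i ∧ c ∉ N`; `i ≠ 0` (`upperCentralSeries_zero`, `1 ∈ N`); for this `c`,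
`mem_upperCentralSeries_succ_iff` gives `c * t * c⁻¹ * t⁻¹ ∈ upperCentralSeries T (i-1)` for all `t`; `cm c t` is of this form
for `c⁻¹`/`t⁻¹` (or use that the series terms are normal subgroups), it lies in `M` (normal) and so in `N` by minimality. -/

set_option autoImplicit false

namespace Cfsg.Agent.Lib.Helper12.RU4

variable {T : Type*} [Group T]

theorem exists_fixed_mod [Finite T] {p : ℕ} [Fact p.Prime] (hT : IsPGroup p T) (N M : Subgroup T)
    (hN : N.Normal) (hM : M.Normal) (hne : ∃ c ∈ M, c ∉ N) :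
    ∃ c ∈ M, c ∉ N ∧ ∀ t : T, cm c t ∈ N := by
  classical
  have : Group.IsNilpotent T := hT.isNilpotent
  obtain ⟨n, hn⟩ := (Group.IsNilpotent.nilpotent (G := T))
  have hex : ∃ i, ∃ c ∈ M, c ∈ Subgroup.upperCentralSeries T i ∧ c ∉ N := by
    obtain ⟨c, hcM, hcN⟩ := hne
    exact ⟨n, c, hcM, by rw [hn]; exact Subgroup.mem_top c, hcN⟩
  obtain ⟨i, hi⟩ : ∃ i, i = Nat.find hex := ⟨_, rfl⟩
  have hspec := Nat.find_spec hex
  rw [← hi] at hspec
  obtain ⟨c, hcM, hci, hcN⟩ := hspec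
  rcases Nat.eq_zero_or_pos i with h0 | hpos
  · exfalso
    rw [h0, Subgroup.upperCentralSeries_zero, Subgroup.mem_bot] at hci
    exact hcN (hci ▸ N.one_mem)
  · obtain ⟨j, hj⟩ : ∃ j, i = j + 1 := ⟨i - 1, by omega⟩
    refine ⟨c, hcM, hcN, ?_⟩
    intro t
    by_contra hcon
    have hmem : cm c t ∈ Subgroup.upperCentralSeries T j := by
      have hc' : c⁻¹ ∈ Subgroup.upperCentralSeries T (j + 1) := by
        rw [← hj]; exact Subgroup.inv_mem _ hci
      have := (Subgroup.mem_upperCentralSeries_succ_iff).mp hc' t⁻¹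
      have e : cm c t = c⁻¹ * t⁻¹ * c⁻¹⁻¹ * t⁻¹⁻¹ := by simp only [cm]; group
      rw [e]
      exact this
    have hlt : j < Nat.find hex := by rw [← hi, hj]; exact Nat.lt_succ_self j
    exact Nat.find_min hex hlt ⟨cm c t, cm_mem_of_normal hM hcM t, hmem, hcon⟩

end Cfsg.Agent.Lib.Helper12.RU4
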