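import Cfsg.Agent.Lib.Helper12.RU4.B01

/-! S3174 Part IV leaf B03 (MEDIUM, blueprint IV.1): if `Z(W) ≠ Z3` then `Y = Z4` is central in `W`.
RECIPE: `M := W ⊓ Subgroup.centralizer (W : Set T)` is normal in `T` (`W` normal: `h.hWn`; the centralizer of a normal
subgroup is normal, `Subgroup.normal_centralizer`-type lemma or by hand; `Subgroup.normal_inf_normal`), `N := Z3` (`h.hZ3n`).
`exists_fixed_mod hT Z3 M` gives `c ∈ M ∖ Z3` with `cm c t ∈ Z3` for all `t`, so `c ∈ Y` (`h.hY`).  From `h.hYZ3`: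
`y₀ ∈ Y ∖ Z3` with `Y ⊆ Z3 ∪ y₀ Z3`; `c ∉ Z3` so `y₀⁻¹ c ∈ Z3`, hence `y₀ = c * (y₀⁻¹ c)⁻¹` commutes with `W`
(`c` does, and `Z3` does: `h.hZ3c`); then every `y ∈ Y` is in `Z3` or in `y₀ Z3`, so commutes with `W`. -/

set_option autoImplicit false

namespace Cfsg.Agent.Lib.Helper12.RU4

variable {T : Type*} [Group T] {Z2 Z3 Y1 Y W T1 T2 : Subgroup T} {z s x : T}

theorem Y_central [Finite T] (hT : IsPGroup 2 T) (h : Cfg Z2 Z3 Y1 Y W T1 T2 z s x)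
    (hne : ∃ c ∈ W, (∀ w ∈ W, c * w = w * c) ∧ c ∉ Z3) :
    ∀ y ∈ Y, ∀ w ∈ W, y * w = w * y := by
  have : Fact (Nat.Prime 2) := ⟨Nat.prime_two⟩
  have hWn : W.Normal := h.hWn
  have hZ3n : Z3.Normal := h.hZ3n
  have hMn : (W ⊓ Subgroup.centralizer (W : Set T)).Normal := Subgroup.normal_inf_normal _ _
  have hmem : ∀ c : T, c ∈ W ⊓ Subgroup.centralizer (W : Set T) ↔
      c ∈ W ∧ ∀ w ∈ W, c * w = w * c := by
    intro c
    rw [Subgroup.mem_inf, Subgroup.mem_centralizer_iff]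
    constructor
    · rintro ⟨h1, h2⟩
      exact ⟨h1, fun w hw => (h2 w hw).symm⟩
    · rintro ⟨h1, h2⟩
      exact ⟨h1, fun w hw => (h2 w hw).symm⟩
  obtain ⟨c0, hc0W, hc0c, hc0Z⟩ := hne
  obtain ⟨c, hcM, hcZ, hct⟩ := exists_fixed_mod hT Z3 (W ⊓ Subgroup.centralizer (W : Set T))
    hZ3n hMn ⟨c0, (hmem c0).2 ⟨hc0W, hc0c⟩, hc0Z⟩
  obtain ⟨hcW, hcc⟩ := (hmem c).1 hcM
  have hcY : c ∈ Y := (h.hY c).2 ⟨hcW, hct⟩
  obtain ⟨y0, hy0Y, hy0Z, hy0⟩ := h.hYZ3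
  -- `y0` commutes with `W`
  have hy0c : ∀ w ∈ W, y0 * w = w * y0 := by
    rcases hy0 c hcY with hc | hc
    · exact absurd hc hcZ
    · intro w hw
      -- y0 = c * (y0⁻¹ * c)⁻¹
      have e : y0 = c * (y0⁻¹ * c)⁻¹ := by group
      have h1 : (y0⁻¹ * c)⁻¹ * w = w * (y0⁻¹ * c)⁻¹ := h.hZ3c _ (inv_mem hc) w hw
      rw [e, mul_assoc, h1, ← mul_assoc, hcc w hw, mul_assoc]
  intro y hyY w hw
  rcases hy0 y hyY with hy | hy
  · exact h.hZ3c y hy w hw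
  · have e : y = y0 * (y0⁻¹ * y) := by group
    have h1 : (y0⁻¹ * y) * w = w * (y0⁻¹ * y) := h.hZ3c _ hy w hw
    rw [e, mul_assoc, h1, ← mul_assoc, hy0c w hw, mul_assoc]

end Cfsg.Agent.Lib.Helper12.RU4
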