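import Cfsg.Agent.Lib.Helper12.RU4.A03
import Cfsg.Agent.Lib.Helper12.RU4.A05

/-! S3174 Part IV leaf C01 (MEDIUM, blueprint I.5 "image inside kernel" / IV.2): one step of the norm.
`S ⊴ T`, `S' = S ∪ gS`, `g² ∈ S`, `v ∈ W` fixed by `S` modulo `Z3`.  Then `v' := v * v^g` is fixed by `S'` modulo `Z3`.
RECIPE (all congruences mod `Z3`, which is normal in `T`; `W/Z3` abelian; use `cm_mul_mod`, `cm_congr_mod'`, `cj_congr_mod`
from A05 and `cj_cj`, `cj_eq` from A01): for `t ∈ S`: `(v^g)^t = v^(g t) = v^(t' g)` with `t' = g t g⁻¹ ∈ S`,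
`v^(t' g) = (v^t')^g ≡ v^g`; so `v'^t ≡ v'`.  For `t = g t₀` (`t₀ ∈ S`): `v'^g = v^g * v^(g g) ≡ v^g * v ≡ v'`
(`g*g ∈ S`), and then `v'^(g t₀) = (v'^g)^t₀ ≡ v'^t₀ ≡ v'`. -/

set_option autoImplicit false

namespace Cfsg.Agent.Lib.Helper12.RU4

namespace C01

variable {T : Type*} [Group T]

theorem cong_mul {N : Subgroup T} (hN : N.Normal) {a b c d : T} (h1 : a⁻¹ * b ∈ N)
    (h2 : c⁻¹ * d ∈ N) : (a * c)⁻¹ * (b * d) ∈ N := by
  have h3 : c⁻¹ * (a⁻¹ * b) * c⁻¹⁻¹ ∈ N := hN.conj_mem _ h1 c⁻¹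
  have e : (a * c)⁻¹ * (b * d) = (c⁻¹ * (a⁻¹ * b) * c⁻¹⁻¹) * (c⁻¹ * d) := by group
  rw [e]
  exact N.mul_mem h3 h2

theorem cong_trans {N : Subgroup T} {a b c : T} (h1 : a⁻¹ * b ∈ N) (h2 : b⁻¹ * c ∈ N) :
    a⁻¹ * c ∈ N := by
  have e : a⁻¹ * c = (a⁻¹ * b) * (b⁻¹ * c) := by group
  rw [e]
  exact N.mul_mem h1 h2

end C01

variable {T : Type*} [Group T] {Z2 Z3 Y1 Y W T1 T2 : Subgroup T} {z s x : T}

theorem fix_step (h : Cfg Z2 Z3 Y1 Y W T1 T2 z s x) (S S' : Subgroup T) (hSn : S.Normal) (g : T)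
    (hS' : ∀ t ∈ S', t ∈ S ∨ g⁻¹ * t ∈ S) (hg2 : g * g ∈ S) {v : T} (hv : v ∈ W)
    (hvS : ∀ t ∈ S, cm v t ∈ Z3) :
    v * cj v g ∈ W ∧ ∀ t ∈ S', cm (v * cj v g) t ∈ Z3 := by
  have hZ := h.hZ3n
  have hvg : cj v g ∈ W := cj_mem_of_normal h.hWn hv g
  have hv'W : v * cj v g ∈ W := W.mul_mem hv hvg
  have case1 : ∀ t ∈ S, (v * cj v g)⁻¹ * cj (v * cj v g) t ∈ Z3 := by
    intro t ht
    have ht' : g * t * g⁻¹ ∈ S := hSn.conj_mem t ht g
    have e0 : g * t = g * t * g⁻¹ * g := by group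
    have e1 : cj (v * cj v g) t = cj v t * cj (cj v (g * t * g⁻¹)) g := by
      rw [cj_mul, cj_cj, cj_cj, ← e0]
    rw [e1]
    apply C01.cong_mul hZ
    · have h1 := hvS t ht
      rwa [cm_eq] at h1
    · apply cj_congr_mod h
      have h1 := hvS _ ht'
      rwa [cm_eq] at h1
  refine ⟨hv'W, ?_⟩
  intro t ht
  rw [cm_eq]
  rcases hS' t ht with htS | htS
  · exact case1 t htS
  · have et : t = g * (g⁻¹ * t) := by group
    have e2 : cj (v * cj v g) t = cj (cj (v * cj v g) g) (g⁻¹ * t) := by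
      rw [cj_cj, ← et]
    have c1 : (v * cj v g)⁻¹ * cj (v * cj v g) g ∈ Z3 := by
      have e3 : cj (v * cj v g) g = cj v g * cj v (g * g) := by rw [cj_mul, cj_cj]
      rw [e3]
      have s1 : (v * cj v g)⁻¹ * (cj v g * v) ∈ Z3 := by
        have h1 := h.hcomm (cj v g) hvg v hv
        have e : (v * cj v g)⁻¹ * (cj v g * v) = cm (cj v g) v := by
          simp only [cm]; group
        rw [e]
        exact h1
      have s2 : (cj v g * v)⁻¹ * (cj v g * cj v (g * g)) ∈ Z3 := by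
        apply C01.cong_mul hZ
        · rw [inv_mul_cancel]
          exact Z3.one_mem
        · have h1 := hvS _ hg2
          rwa [cm_eq] at h1
      exact C01.cong_trans s1 s2
    rw [e2]
    have c2 : (cj (v * cj v g) (g⁻¹ * t))⁻¹ * cj (cj (v * cj v g) g) (g⁻¹ * t) ∈ Z3 :=
      cj_congr_mod h c1 (g⁻¹ * t)
    have c3 := case1 (g⁻¹ * t) htS
    exact C01.cong_trans c3 c2

end Cfsg.Agent.Lib.Helper12.RU4
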