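import Cfsg.Agent.Lib.Helper12.RU4.C01

/-! S3174 Part IV leaf C02 (EASY-MEDIUM, blueprint IV.2): the norm `n3 z s x w` of `w ∈ W` lies in `Y`.
RECIPE: `fix_step` three times: `(S,S',g) = (W,T1,z)` with `h.hT1`, `z*z ∈ W` (`h.hT2sq z (h.hT12 h.hz)`), start: `cm w t ∈ Z3`
for `t ∈ W` (`h.hcomm`); then `(T1,T2,s)` with `h.hT2`, `s*s ∈ W ≤ T1`; then `(T2,⊤,x)` with `h.hT`,
`x*x = z * (z⁻¹*(x*x)) ∈ T2` (`h.hx2`, `h.hz`, `h.hT12`, `h.hWT1`).  Conclude with `h.hY`.  Unfold `n1 n2 n3`. -/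

set_option autoImplicit false

namespace Cfsg.Agent.Lib.Helper12.RU4

variable {T : Type*} [Group T] {Z2 Z3 Y1 Y W T1 T2 : Subgroup T} {z s x : T}

theorem n1_mem (h : Cfg Z2 Z3 Y1 Y W T1 T2 z s x) {w : T} (hw : w ∈ W) :
    n1 z w ∈ W ∧ ∀ t ∈ T1, cm (n1 z w) t ∈ Z3 := by
  have h1 := fix_step h W T1 h.hWn z h.hT1 (h.hT2sq z (h.hT12 h.hz)) hw
    (fun t ht => h.hcomm w hw t ht)
  exact h1

theorem n2_mem (h : Cfg Z2 Z3 Y1 Y W T1 T2 z s x) {w : T} (hw : w ∈ W) :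
    n2 z s w ∈ W ∧ ∀ t ∈ T2, cm (n2 z s w) t ∈ Z3 := by
  obtain ⟨a, b⟩ := n1_mem h hw
  have h1 := fix_step h T1 T2 h.hT1n s h.hT2 (h.hWT1 (h.hT2sq s h.hs)) a b
  exact h1

theorem n3_mem_Y (h : Cfg Z2 Z3 Y1 Y W T1 T2 z s x) {w : T} (hw : w ∈ W) : n3 z s x w ∈ Y := by
  obtain ⟨a, b⟩ := n2_mem h hw
  have hx2 : x * x ∈ T2 := by
    have e : x * x = z * (z⁻¹ * (x * x)) := by group
    rw [e]
    exact T2.mul_mem (h.hT12 h.hz) (h.hT12 (h.hWT1 h.hx2))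
  have h1 := fix_step h T2 ⊤ h.hT2n x (fun t _ => h.hT t) hx2 a b
  exact (h.hY _).2 ⟨h1.1, fun t => h1.2 t (Subgroup.mem_top t)⟩

end Cfsg.Agent.Lib.Helper12.RU4
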