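import Cfsg.Agent.Lib.Helper12.RU4.A03

/-! S3174 Part IV leaf C03 (EASY-MEDIUM, blueprint IV.2): expansion of `[w, n3 w]`.
`n3 z s x w = w * w^z * w^s * w^(z s) * w^x * w^(z x) * w^(s x) * w^(z s x)` (unfold `n1 n2 n3`, `cj_mul`, `cj_cj`, `mul_assoc`),
all eight factors in `W` (`cj_mem_of_normal h.hWn`), then `cm_mul_right` seven times and `cm_self`. -/

set_option autoImplicit false

namespace Cfsg.Agent.Lib.Helper12.RU4

variable {T : Type*} [Group T] {Z2 Z3 Y1 Y W T1 T2 : Subgroup T} {z s x : T}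

theorem cm_n3 (h : Cfg Z2 Z3 Y1 Y W T1 T2 z s x) {w : T} (hw : w ∈ W) :
    cm w (n3 z s x w) =
      cm w (cj w z) * cm w (cj w s) * cm w (cj w (z * s)) * cm w (cj w x) * cm w (cj w (z * x)) *
        cm w (cj w (s * x)) * cm w (cj w (z * s * x)) := by
  have hW := h.hWn
  have m1 : cj w z ∈ W := cj_mem_of_normal hW hw z
  have m2 : cj w s ∈ W := cj_mem_of_normal hW hw s
  have m3 : cj w (z * s) ∈ W := cj_mem_of_normal hW hw (z * s)
  have m4 : cj w x ∈ W := cj_mem_of_normal hW hw x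
  have m5 : cj w (z * x) ∈ W := cj_mem_of_normal hW hw (z * x)
  have m6 : cj w (s * x) ∈ W := cj_mem_of_normal hW hw (s * x)
  have m7 : cj w (z * s * x) ∈ W := cj_mem_of_normal hW hw (z * s * x)
  have p1 : w * cj w z ∈ W := W.mul_mem hw m1
  have p2 : w * cj w z * cj w s ∈ W := W.mul_mem p1 m2
  have p3 : w * cj w z * cj w s * cj w (z * s) ∈ W := W.mul_mem p2 m3
  have p4 : w * cj w z * cj w s * cj w (z * s) * cj w x ∈ W := W.mul_mem p3 m4
  have p5 : w * cj w z * cj w s * cj w (z * s) * cj w x * cj w (z * x) ∈ W := W.mul_mem p4 m5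
  have p6 : w * cj w z * cj w s * cj w (z * s) * cj w x * cj w (z * x) * cj w (s * x) ∈ W :=
    W.mul_mem p5 m6
  have e : n3 z s x w = w * cj w z * cj w s * cj w (z * s) * cj w x * cj w (z * x) *
      cj w (s * x) * cj w (z * s * x) := by
    simp only [n1, n2, n3, cj_mul, cj_cj, mul_assoc]
  rw [e, cm_mul_right h hw p6 m7, cm_mul_right h hw p5 m6, cm_mul_right h hw p4 m5,
    cm_mul_right h hw p3 m4, cm_mul_right h hw p2 m3, cm_mul_right h hw p1 m2,
    cm_mul_right h hw hw m1, cm_self, one_mul]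

end Cfsg.Agent.Lib.Helper12.RU4
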