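import Cfsg.Agent.Lib.Helper12.RU4.A03
import Cfsg.Agent.Lib.Helper12.RU4.A04

/-! S3174 Part IV leaf D01 (MEDIUM, blueprint IV.3(i)): `β_w(t) = [w, w^t] ∈ Z2` for `t ∈ T2`.
RECIPE: `c := cm w (cj w t) ∈ Z3` (`h.hcomm`, `cj_mem_of_normal h.hWn`).  If `t ∈ W`: `cj w t = w * cm w t` with `cm w t ∈ Z3`, so
`c = cm w w * cm w (cm w t) = 1` (`cm_mul_right`, `cm_self`, `cm_Z3_right`).  If `t ∉ W`: `cj c t = cm (cj w t) (cj w (t*t))`
(`cj_cm`, `cj_cj`); `t*t ∈ W` (`h.hT2sq`) so `cj w (t*t) = w * c'`, `c' ∈ Z3`, and `cj c t = cm (cj w t) w = c` (`cm_swap`).  So `t`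
commutes with `c`.  If `c ∉ Z2`: every `d ∈ Z3` is in `Z2` or in `c Z2` (`Z2_of_two`), `t ∈ T2` commutes with `Z2`
(`h.hZ2T2`) and with `c`, hence with all of `Z3`, so `t ∈ W` by `h.hWcen`: contradiction. -/

set_option autoImplicit false

namespace Cfsg.Agent.Lib.Helper12.RU4

variable {T : Type*} [Group T] {Z2 Z3 Y1 Y W T1 T2 : Subgroup T} {z s x : T}

theorem diag_T2 (h : Cfg Z2 Z3 Y1 Y W T1 T2 z s x) {w t : T} (hw : w ∈ W) (ht : t ∈ T2) :
    cm w (cj w t) ∈ Z2 := by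
  have hwt : cj w t ∈ W := cj_mem_of_normal h.hWn hw t
  have hc3 : cm w (cj w t) ∈ Z3 := h.hcomm _ hw _ hwt
  by_cases htW : t ∈ W
  · have h2 : cm w t ∈ Z3 := h.hcomm _ hw _ htW
    have : cm w (cj w t) = 1 := by
      rw [cj_eq, cm_mul_right h hw hw (h.hZ3W h2), cm_self, cm_Z3_right h hw h2, mul_one]
    rw [this]; exact Z2.one_mem
  · by_contra hc2
    apply htW
    apply h.hWcen
    -- t commutes with c := cm w (cj w t)
    set c := cm w (cj w t) with hc
    have htt : t * t ∈ W := h.hT2sq t ht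
    have hcjc : cj c t = c := by
      rw [hc, cj_cm, cj_cj]
      have h2 : cm w (t * t) ∈ Z3 := h.hcomm _ hw _ htt
      have h3 : cj w (t * t) = w * cm w (t * t) := cj_eq _ _
      rw [h3, cm_mul_right h hwt hw (h.hZ3W h2), cm_Z3_right h hwt h2, mul_one, cm_swap h hwt hw]
    have hct : c * t = t * c := by
      have : cj c t = t⁻¹ * c * t := rfl
      rw [this] at hcjc
      calc c * t = t * (t⁻¹ * c * t) := by group
        _ = t * c := by rw [hcjc]
    intro d hd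
    by_cases hd2 : d ∈ Z2
    · exact h.hZ2T2 d hd2 t ht
    · have h5 : c * d ∈ Z2 := Z2_of_two h hc3 hd hc2 hd2
      have h6 := h.hZ2T2 _ h5 t ht
      -- c * d * t = t * (c * d)
      have : d * t = c⁻¹ * (c * d * t) := by group
      rw [this, h6]
      have : c⁻¹ * (t * (c * d)) = c⁻¹ * (t * c) * d := by group
      rw [this, ← hct]
      group

end Cfsg.Agent.Lib.Helper12.RU4
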