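import Cfsg.Agent.Lib.Helper12.RU4.A03

/-! S3174 Part IV leaf D02 (EASY-MEDIUM, blueprint IV.3): `β_w(t) = [w, w^t]` depends only on the double coset `W t W`.
RECIPE: `cj w (t*u) = cj (cj w t) u = cj w t * cm (cj w t) u` (`cj_cj`, `cj_eq`), the last factor in `Z3`; `cm_mul_right`,
`cm_Z3_right`.  `cj w (u*t) = cj (cj w u) t = cj (w * cm w u) t = cj w t * cj (cm w u) t` (`cj_mul`), `cj (cm w u) t ∈ Z3`
(`Z3 ⊴ T`). -/

set_option autoImplicit false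

namespace Cfsg.Agent.Lib.Helper12.RU4

variable {T : Type*} [Group T] {Z2 Z3 Y1 Y W T1 T2 : Subgroup T} {z s x : T}

theorem beta_mul_right (h : Cfg Z2 Z3 Y1 Y W T1 T2 z s x) {w u : T} (hw : w ∈ W) (t : T) (hu : u ∈ W) :
    cm w (cj w (t * u)) = cm w (cj w t) := by
  have hwt : cj w t ∈ W := cj_mem_of_normal h.hWn hw t
  have h1 : cj w (t * u) = cj w t * cm (cj w t) u := by
    rw [← cj_cj, cj_eq]
  have h2 : cm (cj w t) u ∈ Z3 := h.hcomm _ hwt _ hu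
  rw [h1, cm_mul_right h hw hwt (h.hZ3W h2), cm_Z3_right h hw h2, mul_one]

theorem beta_mul_left (h : Cfg Z2 Z3 Y1 Y W T1 T2 z s x) {w u : T} (hw : w ∈ W) (hu : u ∈ W) (t : T) :
    cm w (cj w (u * t)) = cm w (cj w t) := by
  have hwt : cj w t ∈ W := cj_mem_of_normal h.hWn hw t
  have h2 : cm w u ∈ Z3 := h.hcomm _ hw _ hu
  have h3 : cj (cm w u) t ∈ Z3 := cj_mem_of_normal h.hZ3n h2 t
  have h1 : cj w (u * t) = cj w t * cj (cm w u) t := by
    rw [← cj_cj, cj_eq w u, cj_mul]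
  rw [h1, cm_mul_right h hw hwt (h.hZ3W h3), cm_Z3_right h hw h3, mul_one]

end Cfsg.Agent.Lib.Helper12.RU4
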