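import Cfsg.Agent.Lib.Helper12.RU4.A03
import Cfsg.Agent.Lib.Helper12.RU4.A04

/-! S3174 Part IV leaf D03 (EASY-MEDIUM, blueprint IV.3(ii)): `β_w(t⁻¹) ≡ β_w(t) mod Z2`.
RECIPE: `cm_cj_mod h hw (cj w t⁻¹ ∈ W) t`: `cm w (cj w t⁻¹) ≡ cm (cj w t) (cj (cj w t⁻¹) t) = cm (cj w t) w` (`cj_cj`,
`inv_mul_cancel`, `cj_one_right`) `= cm w (cj w t)` (`cm_swap`). -/

set_option autoImplicit false

namespace Cfsg.Agent.Lib.Helper12.RU4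

variable {T : Type*} [Group T] {Z2 Z3 Y1 Y W T1 T2 : Subgroup T} {z s x : T}

theorem beta_inv (h : Cfg Z2 Z3 Y1 Y W T1 T2 z s x) {w : T} (hw : w ∈ W) (t : T) :
    (cm w (cj w t))⁻¹ * cm w (cj w t⁻¹) ∈ Z2 := by
  have hwt : cj w t ∈ W := cj_mem_of_normal h.hWn hw t
  have hwt' : cj w t⁻¹ ∈ W := cj_mem_of_normal h.hWn hw t⁻¹
  have h1 := cm_cj_mod h hw hwt' t
  have h2 : cj (cj w t⁻¹) t = w := by
    rw [cj_cj, inv_mul_cancel, cj_one_right]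
  rw [h2, cm_swap h hw hwt] at h1
  -- h1 : (cm w (cj w t⁻¹))⁻¹ * cm w (cj w t) ∈ Z2
  have h3 := Z2.inv_mem h1
  have e : ((cm w (cj w t⁻¹))⁻¹ * cm w (cj w t))⁻¹ = (cm w (cj w t))⁻¹ * cm w (cj w t⁻¹) := by group
  rw [e] at h3
  exact h3

end Cfsg.Agent.Lib.Helper12.RU4
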