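import Cfsg.Agent.Lib.Helper12.RU4.D02
import Cfsg.Agent.Lib.Helper12.RU4.D03

/-! S3174 Part IV leaf D04 (MEDIUM, blueprint IV.3(iv)): `β_w(x) ≡ β_w(z x) mod Z2`.
RECIPE: `u₀ := z⁻¹ * (x*x) ∈ W` (`h.hx2`), `z*z ∈ W` (`h.hT2sq z (h.hT12 h.hz)`).  `x⁻¹ = u₀⁻¹ * (z*z)⁻¹ * (z * x)` (check: `group`
after substituting `x*x = z*u₀`; more safely prove `x⁻¹ = (x*x)⁻¹ * x` and `(x*x)⁻¹ = u₀⁻¹ * z⁻¹`, `z⁻¹ = (z*z)⁻¹ * z`).  So by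
`beta_mul_left` (twice) `cm w (cj w x⁻¹) = cm w (cj w (z*x))`; combine with `beta_inv h hw x` and `Z2_inv_mul_iff`. -/

set_option autoImplicit false

namespace Cfsg.Agent.Lib.Helper12.RU4

variable {T : Type*} [Group T] {Z2 Z3 Y1 Y W T1 T2 : Subgroup T} {z s x : T}

theorem beta_x_zx (h : Cfg Z2 Z3 Y1 Y W T1 T2 z s x) {w : T} (hw : w ∈ W) :
    cm w (cj w x) * cm w (cj w (z * x)) ∈ Z2 := by
  have hzz : z * z ∈ W := h.hT2sq z (h.hT12 h.hz)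
  have hu : (z⁻¹ * (x * x))⁻¹ * (z * z)⁻¹ ∈ W :=
    W.mul_mem (W.inv_mem h.hx2) (W.inv_mem hzz)
  have hx : x⁻¹ = ((z⁻¹ * (x * x))⁻¹ * (z * z)⁻¹) * (z * x) := by group
  have h1 : cm w (cj w x⁻¹) = cm w (cj w (z * x)) := by
    rw [hx]
    exact beta_mul_left h hw hu (z * x)
  have h2 := beta_inv h hw x
  rw [h1] at h2
  have hA : cm w (cj w x) ∈ Z3 := h.hcomm w hw _ (cj_mem_of_normal h.hWn hw x)
  have hB : cm w (cj w (z * x)) ∈ Z3 := h.hcomm w hw _ (cj_mem_of_normal h.hWn hw (z * x))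
  exact (Z2_inv_mul_iff h hA hB).mp h2

end Cfsg.Agent.Lib.Helper12.RU4
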