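import Cfsg.Agent.Lib.Helper12.RU4.C02
import Cfsg.Agent.Lib.Helper12.RU4.C03
import Cfsg.Agent.Lib.Helper12.RU4.D01

/-! S3174 Part IV leaf D05 (EASY-MEDIUM, blueprint IV.2 + IV.3(iii)): the sum of `β_w` over the four cosets outside `T2` vanishes.
RECIPE: `y := n3 z s x w ∈ Y` (`n3_mem_Y`), so `y * w = w * y` (`hYc`), i.e. `cm w y = 1` (unfold `cm`).  `cm_n3` expands it; the first
three factors are in `Z2` by `diag_T2` (`z, s, z*s ∈ T2`: `h.hz`, `h.hT12`, `h.hs`); all factors lie in `Z3`, `Z2` is a subgroup. -/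

set_option autoImplicit false

namespace Cfsg.Agent.Lib.Helper12.RU4

variable {T : Type*} [Group T] {Z2 Z3 Y1 Y W T1 T2 : Subgroup T} {z s x : T}

theorem sum4 (h : Cfg Z2 Z3 Y1 Y W T1 T2 z s x) (hYc : ∀ y ∈ Y, ∀ w ∈ W, y * w = w * y) {w : T}
    (hw : w ∈ W) :
    cm w (cj w x) * cm w (cj w (z * x)) * cm w (cj w (s * x)) * cm w (cj w (z * s * x)) ∈ Z2 := by
  have hy : n3 z s x w ∈ Y := n3_mem_Y h hw
  have hyw := hYc _ hy w hw
  have h1 : cm w (n3 z s x w) = 1 := by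
    simp only [cm]
    calc w⁻¹ * (n3 z s x w)⁻¹ * w * n3 z s x w
        = w⁻¹ * (n3 z s x w)⁻¹ * (w * n3 z s x w) := by group
      _ = w⁻¹ * (n3 z s x w)⁻¹ * (n3 z s x w * w) := by rw [hyw]
      _ = 1 := by group
  have h2 := cm_n3 h hw
  rw [h1] at h2
  have hzT2 : z ∈ T2 := h.hT12 h.hz
  have p1 : cm w (cj w z) ∈ Z2 := diag_T2 h hw hzT2
  have p2 : cm w (cj w s) ∈ Z2 := diag_T2 h hw h.hs
  have p3 : cm w (cj w (z * s)) ∈ Z2 := diag_T2 h hw (T2.mul_mem hzT2 h.hs)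
  have hP : cm w (cj w z) * cm w (cj w s) * cm w (cj w (z * s)) ∈ Z2 :=
    Z2.mul_mem (Z2.mul_mem p1 p2) p3
  have e : cm w (cj w x) * cm w (cj w (z * x)) * cm w (cj w (s * x)) * cm w (cj w (z * s * x))
      = (cm w (cj w z) * cm w (cj w s) * cm w (cj w (z * s)))⁻¹ := by
    apply eq_inv_of_mul_eq_one_right
    rw [h2]
    group
  rw [e]
  exact Z2.inv_mem hP

end Cfsg.Agent.Lib.Helper12.RU4
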