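import Cfsg.Agent.Lib.Helper12.RU4.D04
import Cfsg.Agent.Lib.Helper12.RU4.D05

/-! S3174 Part IV leaf D06 (EASY): `β_w(s x) ≡ β_w(z s x) mod Z2`, from `sum4` and `beta_x_zx` (`Z2` is a subgroup:
`(a*b)⁻¹ * (a*b*c*d) = c*d`). -/

set_option autoImplicit false

namespace Cfsg.Agent.Lib.Helper12.RU4

variable {T : Type*} [Group T] {Z2 Z3 Y1 Y W T1 T2 : Subgroup T} {z s x : T}

theorem beta_sx_zsx (h : Cfg Z2 Z3 Y1 Y W T1 T2 z s x) (hYc : ∀ y ∈ Y, ∀ w ∈ W, y * w = w * y)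
    {w : T} (hw : w ∈ W) :
    cm w (cj w (s * x)) * cm w (cj w (z * s * x)) ∈ Z2 := by
  have h1 := sum4 h hYc hw
  have h2 := beta_x_zx h hw
  have e : cm w (cj w (s * x)) * cm w (cj w (z * s * x))
      = (cm w (cj w x) * cm w (cj w (z * x)))⁻¹ *
        (cm w (cj w x) * cm w (cj w (z * x)) * cm w (cj w (s * x)) * cm w (cj w (z * s * x))) := by
    group
  rw [e]
  exact Z2.mul_mem (Z2.inv_mem h2) h1

end Cfsg.Agent.Lib.Helper12.RU4
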