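import Cfsg.Agent.Lib.Helper12.RU4.D06

/-! S3174 Part IV leaf D07 (MEDIUM-HARD, blueprint IV.3 end): `β_w(t z) ≡ β_w(t) mod Z2` for ALL `t ∈ T`.
RECIPE.  (a) `outer_cases`: `t ∉ T2`; `t₂ := x⁻¹ t ∈ T2` (`h.hT`); `t₂ ∈ T1` or `s⁻¹ t₂ ∈ T1` (`h.hT2`), and an element of `T1` is in
`W` or in `zW` (`h.hT1`): `t ∈ xW ∪ xzW ∪ xsW ∪ xszW`.  Move `z`, `s` to the left of `x` with `mul_eq_cm`:
`x*z = z*x*cm x z` with `cm x z ∈ W` (`cm_inv_swap`, `h.hT1c z h.hz x`); `x*s = s*x*cm x s` with `cm x s ∈ T1` (`h.hT2c s h.hs x`)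
so `cm x s ∈ W` or `∈ zW`; `W` is normal.  (b) `zshift`: if `t ∈ T2` both `β_w(t)`, `β_w(t*z)` are in `Z2` (`diag_T2`,
`t*z ∈ T2`).  Otherwise `t = g*u` with `g ∈ {x, z*x, s*x, z*s*x}`, `u ∈ W`; `t*z = g*z*u'` (`u*z = z*u*cm u z`, `cm u z ∈ W`),
`g*z = z*g*cm g z` (`cm g z ∈ W` by `h.hT1c`), so by `beta_mul_right/left`: `β_w(t) = β_w(g)`, `β_w(t*z) = β_w(z*g)`; finally
`β_w(z*x) ≡ β_w(x)` (`beta_x_zx`), `β_w(z*(z*x)) = β_w(x)` (`z*z ∈ W`), `β_w(z*(s*x)) ≡ β_w(s*x)` (`beta_sx_zsx`, `mul_assoc`),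
`β_w(z*(z*s*x)) = β_w(s*x)`.  Use `Z2_inv_mul_iff`, `Z2_mul_iff` for the bookkeeping in `Z3/Z2`. -/

set_option autoImplicit false

namespace Cfsg.Agent.Lib.Helper12.RU4

variable {T : Type*} [Group T] {Z2 Z3 Y1 Y W T1 T2 : Subgroup T} {z s x : T}

theorem outer_cases (h : Cfg Z2 Z3 Y1 Y W T1 T2 z s x) {t : T} (ht : t ∉ T2) :
    ∃ u ∈ W, t = x * u ∨ t = z * x * u ∨ t = s * x * u ∨ t = z * s * x * u := by
  have ht2 : x⁻¹ * t ∈ T2 := (h.hT t).resolve_left ht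
  have hxz : cm x z ∈ W := by
    rw [← cm_inv_swap]; exact W.inv_mem (h.hT1c z h.hz x)
  have hsz : cm s z ∈ W := by
    rw [← cm_inv_swap]; exact W.inv_mem (h.hT1c z h.hz s)
  have hxs : cm x s ∈ T1 := by
    rw [← cm_inv_swap]; exact T1.inv_mem (h.hT2c s h.hs x)
  rcases h.hT2 _ ht2 with h1 | h1
  · rcases h.hT1 _ h1 with h2 | h2
    · exact ⟨x⁻¹ * t, h2, Or.inl (by group)⟩
    · refine ⟨cm x z * (z⁻¹ * (x⁻¹ * t)), W.mul_mem hxz h2, Or.inr (Or.inl ?_)⟩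
      simp only [cm]; group
  · -- s⁻¹ * (x⁻¹ * t) ∈ T1
    have h3 : cm x s * (s⁻¹ * (x⁻¹ * t)) ∈ T1 := T1.mul_mem hxs h1
    rcases h.hT1 _ h3 with h2 | h2
    · refine ⟨cm x s * (s⁻¹ * (x⁻¹ * t)), h2, Or.inr (Or.inr (Or.inl ?_))⟩
      simp only [cm]; group
    · refine ⟨cj (cm s z) x * cm x z * (z⁻¹ * (cm x s * (s⁻¹ * (x⁻¹ * t)))),
        W.mul_mem (W.mul_mem (cj_mem_of_normal h.hWn hsz x) hxz) h2, Or.inr (Or.inr (Or.inr ?_))⟩
      simp only [cm, cj]; group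

theorem zshift (h : Cfg Z2 Z3 Y1 Y W T1 T2 z s x) (hYc : ∀ y ∈ Y, ∀ w ∈ W, y * w = w * y)
    {w : T} (hw : w ∈ W) (t : T) :
    (cm w (cj w t))⁻¹ * cm w (cj w (t * z)) ∈ Z2 := by
  have hb3 : ∀ g : T, cm w (cj w g) ∈ Z3 := fun g => h.hcomm _ hw _ (cj_mem_of_normal h.hWn hw g)
  have hzT2 : z ∈ T2 := h.hT12 h.hz
  have hzz : z * z ∈ W := h.hT2sq z hzT2
  by_cases ht : t ∈ T2
  · exact Z2.mul_mem (Z2.inv_mem (diag_T2 h hw ht)) (diag_T2 h hw (T2.mul_mem ht hzT2))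
  · -- reduction: β(g*u*z) = β(z*g)
    have key : ∀ g u : T, u ∈ W → cm w (cj w (g * u * z)) = cm w (cj w (z * g)) := by
      intro g u hu
      have huz : cm u z ∈ W := cm_mem_of_normal h.hWn hu z
      have hgz : cm g z ∈ W := by
        rw [← cm_inv_swap]; exact W.inv_mem (h.hT1c z h.hz g)
      have e1 : g * u * z = z * g * (cm g z * (u * cm u z)) := by
        simp only [cm]; group
      rw [e1, beta_mul_right h hw _ (W.mul_mem hgz (W.mul_mem hu huz))]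
    have fin : ∀ c d : T, c ∈ Z3 → d ∈ Z3 → c * d ∈ Z2 → c⁻¹ * d ∈ Z2 ∧ d⁻¹ * c ∈ Z2 := by
      intro c d hc hd hcd
      refine ⟨(Z2_inv_mul_iff h hc hd).mpr hcd, (Z2_inv_mul_iff h hd hc).mpr ?_⟩
      rw [Z2_mul_iff h hd hc]
      exact ((Z2_mul_iff h hc hd).mp hcd).symm
    obtain ⟨u, hu, hcase⟩ := outer_cases h ht
    rcases hcase with rfl | rfl | rfl | rfl
    · rw [key x u hu, beta_mul_right h hw x hu]
      exact (fin _ _ (hb3 _) (hb3 _) (beta_x_zx h hw)).1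
    · rw [key (z * x) u hu, beta_mul_right h hw (z * x) hu]
      have e : z * (z * x) = (z * z) * x := by group
      rw [e, beta_mul_left h hw hzz x]
      exact (fin _ _ (hb3 _) (hb3 _) (beta_x_zx h hw)).2
    · rw [key (s * x) u hu, beta_mul_right h hw (s * x) hu]
      have e : z * (s * x) = z * s * x := by group
      rw [e]
      exact (fin _ _ (hb3 _) (hb3 _) (beta_sx_zsx h hYc hw)).1
    · rw [key (z * s * x) u hu, beta_mul_right h hw (z * s * x) hu]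
      have e : z * (z * s * x) = (z * z) * (s * x) := by group
      rw [e, beta_mul_left h hw hzz (s * x)]
      exact (fin _ _ (hb3 _) (hb3 _) (beta_sx_zsx h hYc hw)).2

end Cfsg.Agent.Lib.Helper12.RU4
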