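import Cfsg.Agent.Lib.Helper12.RU4.A05

/-! S3174 Part IV leaf E01 (MEDIUM, blueprint IV.4 first sentence): a `w₀ ∈ W` with `[[[w₀,z],s],x] ∉ Z3`.
RECIPE: `h.hYZ3` gives `y₀ ∈ Y ∖ Z3`; `h.hY`: `y₀ ∈ W`, `cm y₀ t ∈ Z3` for all `t`.  `h.hE3 y₀` gives `u₂ ∈ W`, `T2`-fixed mod `Z3`, with
`(cm u₂ x)⁻¹ * y₀ ∈ Z3`; `h.hE2 u₂` gives `u₁ ∈ W`, `T1`-fixed, `(cm u₁ s)⁻¹ * u₂ ∈ Z3`; `h.hE1 u₁` gives `u₀ ∈ W` with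
`(cm u₀ z)⁻¹ * u₁ ∈ Z3`.  Then `cm (cm (cm u₀ z) s) x ≡ cm (cm u₁ s) x ≡ cm u₂ x ≡ y₀ mod Z3` (`cm_congr_mod'` twice; all
elements in `W`: `cm_mem_of_normal h.hWn`), and `y₀ ∉ Z3`. -/

set_option autoImplicit false

namespace Cfsg.Agent.Lib.Helper12.RU4

variable {T : Type*} [Group T] {Z2 Z3 Y1 Y W T1 T2 : Subgroup T} {z s x : T}

theorem exists_w0 (h : Cfg Z2 Z3 Y1 Y W T1 T2 z s x) :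
    ∃ w0 ∈ W, cm (cm (cm w0 z) s) x ∉ Z3 := by
  obtain ⟨y0, hy0Y, hy0Z3, -⟩ := h.hYZ3
  obtain ⟨hy0W, hy0t⟩ := (h.hY y0).mp hy0Y
  obtain ⟨u2, hu2W, hu2T2, hu2⟩ := h.hE3 y0 hy0W hy0t
  obtain ⟨u1, hu1W, hu1T1, hu1⟩ := h.hE2 u2 hu2W hu2T2
  obtain ⟨u0, hu0W, hu0⟩ := h.hE1 u1 hu1W hu1T1
  refine ⟨u0, hu0W, fun hcon => hy0Z3 ?_⟩
  have haW : cm u0 z ∈ W := cm_mem_of_normal h.hWn hu0W z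
  have h1 : (cm (cm u0 z) s)⁻¹ * cm u1 s ∈ Z3 := cm_congr_mod' h haW hu1W hu0 s
  have ha'W : cm (cm u0 z) s ∈ W := cm_mem_of_normal h.hWn haW s
  have h2 : (cm (cm u0 z) s)⁻¹ * u2 ∈ Z3 := by
    have : (cm (cm u0 z) s)⁻¹ * u2 = ((cm (cm u0 z) s)⁻¹ * cm u1 s) * ((cm u1 s)⁻¹ * u2) := by group
    rw [this]
    exact Z3.mul_mem h1 hu1
  have h3 : (cm (cm (cm u0 z) s) x)⁻¹ * cm u2 x ∈ Z3 := cm_congr_mod' h ha'W hu2W h2 x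
  have h4 : cm u2 x ∈ Z3 := by
    have : cm u2 x = cm (cm (cm u0 z) s) x * ((cm (cm (cm u0 z) s) x)⁻¹ * cm u2 x) := by group
    rw [this]
    exact Z3.mul_mem hcon h3
  have : y0 = cm u2 x * ((cm u2 x)⁻¹ * y0) := by group
  rw [this]
  exact Z3.mul_mem h4 hu2

end Cfsg.Agent.Lib.Helper12.RU4
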