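import Cfsg.Agent.Lib.Helper12.RU4.A05

/-! S3174 Part IV leaf E02 (HARD, blueprint IV.4 "squaring argument of I.5"): one step `V ↦ V' = [V,g] Z3`.
`V ⊴ T`, `Z3 ≤ V ≤ W`; `g² ` acts trivially on `V/Z3` (`hg2`) and every `[g,t]` acts trivially on `V/Z3` (`hgT`).  Then there is
`V' ⊴ T`, `Z3 ≤ V' ≤ V`, containing all `cm v g` (`v ∈ V`), on which `g` acts trivially mod `Z3`, with `|V'|² ≤ |V| |Z3|`.
RECIPE: `φ : V/Z3 → V/Z3`, `φ(v) = v⁻¹ v^g` is a homomorphism (`cm_mul_mod`; `V/Z3` abelian since `V ≤ W`), `φ² = g² - 1 = 0` in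
characteristic 2 (`V/Z3` has exponent 2 by `h.hsq`): `cm (cm v g) g ≡ v * cm v (g*g) * (stuff)²`...; so `im φ ≤ ker φ` and
`|V/Z3| = |ker φ| |im φ| ≥ |im φ|²`.  Take `V' :=` the preimage of `im φ`, i.e. `{c | ∃ v ∈ V, (cm v g)⁻¹ * c ∈ Z3}` (a subgroup by
`cm_mul_mod`).  Normal in `T`: `cj (cm v g) t = cm (cj v t) (cj g t)`, `cj g t = g * cm g t` and `cm v' (g * r) ≡ cm v' g` when
`cm (cj v' g) r ∈ Z3` (`hgT`, `V` normal).  You may go through the quotient `↥V ⧸ Z3.subgroupOf V` and helper1's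
`Cfsg.Agent.Lib.Helper1.RUChain.abs_step` (`Lib/Helper1/RUChain.lean`: for an involutive endomorphism `σ` of a finite
elementary abelian 2-group `M`: `|M| ≤ |Fix σ|²`) with `σ` = conjugation by `g`: then `V'` may be taken to be the full preimage of
`Fix σ`... NO: `V'` must be the IMAGE (so that `|V'|² ≤ |V||Z3|`); use `|im| |ker| = |M|` and `im ≤ ker` directly. -/

set_option autoImplicit false

namespace Cfsg.Agent.Lib.Helper12.RU4

variable {T : Type*} [Group T] {Z2 Z3 Y1 Y W T1 T2 : Subgroup T} {z s x : T}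

theorem image_step [Finite T] (h : Cfg Z2 Z3 Y1 Y W T1 T2 z s x) (V : Subgroup T) (hVn : V.Normal)
    (hZ3V : Z3 ≤ V) (hVW : V ≤ W) (g : T) (hg2 : ∀ v ∈ V, cm v (g * g) ∈ Z3)
    (hgT : ∀ v ∈ V, ∀ t : T, cm v (cm g t) ∈ Z3) :
    ∃ V' : Subgroup T, V'.Normal ∧ Z3 ≤ V' ∧ V' ≤ V ∧ (∀ v ∈ V, cm v g ∈ V') ∧
      (∀ c ∈ V', cm c g ∈ Z3) ∧ Nat.card ↥V' * Nat.card ↥V' ≤ Nat.card ↥V * Nat.card ↥Z3 := by
  have := h.hZ3n
  have hcmV : ∀ v ∈ V, ∀ t : T, cm v t ∈ V := fun v hv t => cm_mem_of_normal hVn hv t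
  -- the homomorphism `v ↦ [v,g] Z3`
  let φ : ↥V →* T ⧸ Z3 := MonoidHom.mk' (fun v => (QuotientGroup.mk (cm (v : T) g) : T ⧸ Z3)) (by
    intro a b
    show (QuotientGroup.mk (cm ((a : T) * (b : T)) g) : T ⧸ Z3) =
      QuotientGroup.mk (cm (a : T) g) * QuotientGroup.mk (cm (b : T) g)
    rw [← QuotientGroup.mk_mul]
    symm
    rw [QuotientGroup.eq]
    exact cm_mul_mod h (hVW a.2) (hVW b.2) g)
  have hφ : ∀ v : ↥V, φ v = (QuotientGroup.mk (cm (v : T) g) : T ⧸ Z3) := fun _ => rfl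
  set V' : Subgroup T := φ.range.comap (QuotientGroup.mk' Z3) with hV'
  have hmem : ∀ c : T, c ∈ V' ↔ ∃ v ∈ V, (cm v g)⁻¹ * c ∈ Z3 := by
    intro c
    rw [hV', Subgroup.mem_comap, MonoidHom.mem_range]
    constructor
    · rintro ⟨v, hv⟩
      refine ⟨v, v.2, ?_⟩
      rw [hφ, QuotientGroup.mk'_apply, QuotientGroup.eq] at hv
      exact hv
    · rintro ⟨v, hv, hvc⟩
      refine ⟨⟨v, hv⟩, ?_⟩
      rw [hφ, QuotientGroup.mk'_apply, QuotientGroup.eq]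
      exact hvc
  have hker : ∀ v : ↥V, v ∈ φ.ker ↔ cm (v : T) g ∈ Z3 := by
    intro v
    rw [MonoidHom.mem_ker, hφ, QuotientGroup.eq_one_iff]
  -- (3)
  have h3 : Z3 ≤ V' := by
    intro c hc
    rw [hmem]
    refine ⟨1, one_mem _, ?_⟩
    rw [cm_one_left, inv_one, one_mul]
    exact hc
  -- (4)
  have h4 : V' ≤ V := by
    intro c hc
    rw [hmem] at hc
    obtain ⟨v, hv, ha⟩ := hc
    have : c = cm v g * ((cm v g)⁻¹ * c) := by group
    rw [this]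
    exact mul_mem (hcmV v hv g) (hZ3V ha)
  -- (5)
  have h5 : ∀ v ∈ V, cm v g ∈ V' := by
    intro v hv
    rw [hmem]
    refine ⟨v, hv, ?_⟩
    rw [inv_mul_cancel]
    exact one_mem _
  -- (6)
  have h6 : ∀ c ∈ V', cm c g ∈ Z3 := by
    intro c hc
    rw [hmem] at hc
    obtain ⟨v, hv, ha⟩ := hc
    have hvW : v ∈ W := hVW hv
    have hu : cj v g ∈ V := cj_mem_of_normal hVn hv g
    have huW : cj v g ∈ W := hVW hu
    have hcmW : cm v g ∈ W := hVW (hcmV v hv g)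
    -- `[[v,g],g] ∈ Z3`
    have k3 : cm (cm v g) g ∈ Z3 := by
      have j1 := cm_mul_mod h (W.inv_mem hvW) huW g
      have j2 : cm v⁻¹ g * cm (cj v g) g = v * (cj v g * cj v g)⁻¹ * v * cm v (g * g) := by
        simp only [cj, cm]; group
      have hb : (cj v g * cj v g)⁻¹ ∈ Z3 := Z3.inv_mem (h.hsq _ huW)
      have j3 : cm v⁻¹ g * cm (cj v g) g ∈ Z3 := by
        rw [j2]
        have hc1 : (cj v g * cj v g)⁻¹ * v = v * (cj v g * cj v g)⁻¹ := h.hZ3c _ hb v hvW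
        have : v * (cj v g * cj v g)⁻¹ * v * cm v (g * g)
            = (cj v g * cj v g)⁻¹ * (v * v) * cm v (g * g) := by
          rw [← hc1]; group
        rw [this]
        exact mul_mem (mul_mem hb (h.hsq v hvW)) (hg2 v hv)
      have j4 : cm (cm v g) g = (cm v⁻¹ g * cm (cj v g) g) *
          ((cm v⁻¹ g * cm (cj v g) g)⁻¹ * cm (v⁻¹ * cj v g) g) := by
        rw [cm_eq v g]; group
      rw [j4]
      exact mul_mem j3 j1
    have k1 := cm_mul_mod h hcmW (h.hZ3W ha) g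
    have k2 : cm ((cm v g)⁻¹ * c) g ∈ Z3 := cm_mem_of_normal h.hZ3n ha g
    have e : cm c g = (cm (cm v g) g * cm ((cm v g)⁻¹ * c) g) *
        ((cm (cm v g) g * cm ((cm v g)⁻¹ * c) g)⁻¹ * cm (cm v g * ((cm v g)⁻¹ * c)) g) := by
      have : cm v g * ((cm v g)⁻¹ * c) = c := by group
      rw [this]; group
    rw [e]
    exact mul_mem (mul_mem k3 k2) k1
  -- (2)
  have h2 : V'.Normal := by
    constructor
    intro c hc t
    rw [hmem] at hc ⊢
    obtain ⟨v, hv, ha⟩ := hc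
    have hv' : cj v t⁻¹ ∈ V := cj_mem_of_normal hVn hv _
    refine ⟨cj v t⁻¹, hv', ?_⟩
    have e1 : t * c * t⁻¹ = cj (cm v g) t⁻¹ * cj ((cm v g)⁻¹ * c) t⁻¹ := by
      simp only [cj]; group
    have e2 : cj (cm v g) t⁻¹ = cm (cj v t⁻¹) g * cm (cj (cj v t⁻¹) g) (cm g t⁻¹) := by
      simp only [cj, cm]; group
    have m1 : cm (cj (cj v t⁻¹) g) (cm g t⁻¹) ∈ Z3 :=
      hgT _ (cj_mem_of_normal hVn hv' g) _
    have m2 : cj ((cm v g)⁻¹ * c) t⁻¹ ∈ Z3 := cj_mem_of_normal h.hZ3n ha _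
    rw [e1, e2]
    have : (cm (cj v t⁻¹) g)⁻¹ * (cm (cj v t⁻¹) g * cm (cj (cj v t⁻¹) g) (cm g t⁻¹) *
        cj ((cm v g)⁻¹ * c) t⁻¹) = cm (cj (cj v t⁻¹) g) (cm g t⁻¹) * cj ((cm v g)⁻¹ * c) t⁻¹ := by
      group
    rw [this]
    exact mul_mem m1 m2
  -- (7) counting
  have c1 : Nat.card ↥φ.ker * Nat.card ↥φ.range = Nat.card ↥V := by
    rw [← Subgroup.index_ker]; exact Subgroup.card_mul_index φ.ker
  have c2 : Nat.card ↥V' = Nat.card ↥φ.range * Nat.card ↥Z3 := by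
    have i1 : V'.index = φ.range.index :=
      Subgroup.index_comap_of_surjective φ.range (QuotientGroup.mk'_surjective Z3)
    have i2 := Subgroup.card_mul_index V'
    have i3 := Subgroup.card_mul_index φ.range
    have i4 := Subgroup.card_eq_card_quotient_mul_card_subgroup Z3
    have i5 : 0 < φ.range.index := Nat.pos_of_ne_zero Subgroup.index_ne_zero_of_finite
    rw [i1] at i2
    have : Nat.card ↥V' * φ.range.index = (Nat.card ↥φ.range * Nat.card ↥Z3) * φ.range.index := by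
      rw [i2, i4, ← i3]; ring
    exact Nat.eq_of_mul_eq_mul_right i5 this
  have c3 : Nat.card ↥V' ≤ Nat.card ↥φ.ker := by
    let f : ↥V' → ↥φ.ker := fun c => ⟨⟨c.1, h4 c.2⟩, (hker _).mpr (h6 c.1 c.2)⟩
    apply Nat.card_le_card_of_injective f
    intro a b hab
    apply Subtype.ext
    have := congrArg (fun q : ↥φ.ker => ((q : ↥V) : T)) hab
    exact this
  refine ⟨V', h2, h3, h4, h5, h6, ?_⟩
  calc Nat.card ↥V' * Nat.card ↥V' ≤ Nat.card ↥V' * Nat.card ↥φ.ker := Nat.mul_le_mul_left _ c3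
    _ = Nat.card ↥V * Nat.card ↥Z3 := by rw [c2, ← c1]; ring

end Cfsg.Agent.Lib.Helper12.RU4
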