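import Cfsg.Agent.Lib.Helper12.RU4.E02

/-! S3174 Part IV leaf E03 (HARD, blueprint IV.4): a normal subgroup `X` of `T` with `Z3 ≤ X ≤ W` containing `w₀` is all of `W`.
RECIPE: `image_step` three times.  (1) `V = X`, `g = z`: `z*z ∈ W` (`h.hT2sq z (h.hT12 h.hz)`) and `cm z t ∈ W` (`h.hT1c`) act trivially
on `W/Z3` (`h.hcomm`); get `X1 ∋ cm w₀ z`, with `cm c z ∈ Z3` on `X1`, hence `cm c y ∈ Z3` for all `y ∈ T1` (`h.hT1`: `y ∈ W` or
`y = z*u`; `cm c (z*u)`: `cj c (z*u) = cj (cj c z) u`).  (2) `V = X1`, `g = s`: `s*s ∈ W` (`h.hT2sq`), `cm s t ∈ T1` (`h.hT2c`); get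
`X2 ∋ cm (cm w₀ z) s`, fixed mod `Z3` by `s` and by `T1` (as `X2 ≤ X1`), hence by `T2` (`h.hT2`).  (3) `V = X2`, `g = x`:
`x*x ∈ T2` (`h.hx2`) and `cm x t ∈ T2` for all `t` (`T2` normal; if `t ∉ T2` write `t = x*t₂` by `h.hT`, `cm x (x*t₂) = cm x t₂`);
get `X3 ∋ cm (cm (cm w₀ z) s) x ∉ Z3`, so `Z3 < X3` and `Nat.card X3 ≥ 2 * Nat.card Z3` (Lagrange: `Subgroup.card_dvd_of_le`).
With `n_i = |X_i|/|Z3|`: `n3 ≥ 2`, `n2 ≥ n3² ≥ 4`, `n1 ≥ 16`, `n0 ≥ 256`; `h.hcardW` and `X ≤ W` give `X = W`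
(`Subgroup.eq_of_le_of_card_ge`).  Arithmetic: from `a*a ≤ b*c` chains with `c = Nat.card Z3 > 0`; `nlinarith`/`Nat.le_of_mul_le_mul_left`. -/

set_option autoImplicit false

namespace Cfsg.Agent.Lib.Helper12.RU4

variable {T : Type*} [Group T] {Z2 Z3 Y1 Y W T1 T2 : Subgroup T} {z s x : T}

namespace E03

theorem cm_mul_gen {T : Type*} [Group T] (c g r : T) : cm c (g * r) = cm c g * cm (cj c g) r := by
  simp only [cj, cm]; group

theorem arith_step {a b c k : ℕ} (hc : 0 < c) (hk : k * c ≤ a) (hab : a * a ≤ b * c) :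
    k * k * c ≤ b := by
  have h1 : (k * c) * (k * c) ≤ a * a := Nat.mul_le_mul hk hk
  have h2 : (k * k * c) * c ≤ b * c := by
    calc (k * k * c) * c = (k * c) * (k * c) := by ring
      _ ≤ a * a := h1
      _ ≤ b * c := hab
  exact Nat.le_of_mul_le_mul_right h2 hc

end E03

theorem span_eq [Finite T] (h : Cfg Z2 Z3 Y1 Y W T1 T2 z s x) {w0 : T} (hw0 : w0 ∈ W)
    (hw0n : cm (cm (cm w0 z) s) x ∉ Z3) (X : Subgroup T) (hXn : X.Normal) (hZ3X : Z3 ≤ X)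
    (hXW : X ≤ W) (hw0X : w0 ∈ X) : X = W := by
  have hzz : z * z ∈ W := h.hT2sq z (h.hT12 h.hz)
  -- step 1
  obtain ⟨X1, hX1n, hZ3X1, hX1X, hX1cm, hX1z, hcard1⟩ := image_step h X hXn hZ3X hXW z
    (fun v hv => h.hcomm v (hXW hv) _ hzz)
    (fun v hv t => h.hcomm v (hXW hv) _ (h.hT1c z h.hz t))
  have hX1W : X1 ≤ W := hX1X.trans hXW
  have A1 : ∀ c ∈ X1, ∀ y ∈ T1, cm c y ∈ Z3 := by
    intro c hc y hy
    rcases h.hT1 y hy with hyW | hyW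
    · exact h.hcomm c (hX1W hc) y hyW
    · have : y = z * (z⁻¹ * y) := by group
      rw [this, E03.cm_mul_gen]
      exact mul_mem (hX1z c hc)
        (h.hcomm _ (cj_mem_of_normal h.hWn (hX1W hc) z) _ hyW)
  -- step 2
  obtain ⟨X2, hX2n, hZ3X2, hX2X1, hX2cm, hX2s, hcard2⟩ := image_step h X1 hX1n hZ3X1 hX1W s
    (fun v hv => h.hcomm v (hX1W hv) _ (h.hT2sq s h.hs))
    (fun v hv t => A1 v hv _ (h.hT2c s h.hs t))
  have hX2W : X2 ≤ W := hX2X1.trans hX1W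
  have A2 : ∀ c ∈ X2, ∀ y ∈ T2, cm c y ∈ Z3 := by
    intro c hc y hy
    rcases h.hT2 y hy with hyT | hyT
    · exact A1 c (hX2X1 hc) y hyT
    · have : y = s * (s⁻¹ * y) := by group
      rw [this, E03.cm_mul_gen]
      exact mul_mem (hX2s c hc)
        (A1 _ (hX2X1 (cj_mem_of_normal hX2n hc s)) _ hyT)
  -- step 3
  have hxx : x * x ∈ T2 := by
    have : x * x = z * (z⁻¹ * (x * x)) := by group
    rw [this]
    exact mul_mem (h.hT12 h.hz) (h.hT12 (h.hWT1 h.hx2))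
  have hcmx : ∀ t : T, cm x t ∈ T2 := by
    intro t
    rcases h.hT t with ht | ht
    · exact cm_mem_of_normal' h.hT2n x ht
    · have e : cm x t = cm x (x⁻¹ * t) := by simp only [cm]; group
      rw [e]
      exact cm_mem_of_normal' h.hT2n x ht
  obtain ⟨X3, hX3n, hZ3X3, hX3X2, hX3cm, hX3x, hcard3⟩ := image_step h X2 hX2n hZ3X2 hX2W x
    (fun v hv => A2 v hv _ hxx)
    (fun v hv t => A2 v hv _ (hcmx t))
  -- the element
  have m1 : cm w0 z ∈ X1 := hX1cm w0 hw0X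
  have m2 : cm (cm w0 z) s ∈ X2 := hX2cm _ m1
  have m3 : cm (cm (cm w0 z) s) x ∈ X3 := hX3cm _ m2
  -- `2 |Z3| ≤ |X3|`
  have hc : 0 < Nat.card ↥Z3 := Nat.card_pos
  have hdvd : Nat.card ↥Z3 ∣ Nat.card ↥X3 := Subgroup.card_dvd_of_le hZ3X3
  have hne : Nat.card ↥X3 ≠ Nat.card ↥Z3 := by
    intro heq
    have : Z3 = X3 := Subgroup.eq_of_le_of_card_ge hZ3X3 (le_of_eq heq)
    rw [← this] at m3
    exact hw0n m3
  have q3 : 2 * Nat.card ↥Z3 ≤ Nat.card ↥X3 := by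
    obtain ⟨k, hk⟩ := hdvd
    have hX3pos : 0 < Nat.card ↥X3 := Nat.card_pos
    rcases k with _ | _ | k
    · rw [hk] at hX3pos; simp at hX3pos
    · rw [hk] at hne; simp at hne
    · rw [hk]; nlinarith
  have q2 : 2 * 2 * Nat.card ↥Z3 ≤ Nat.card ↥X2 := E03.arith_step hc q3 hcard3
  have q1 : (2 * 2) * (2 * 2) * Nat.card ↥Z3 ≤ Nat.card ↥X1 := E03.arith_step hc q2 hcard2
  have q0 : ((2 * 2) * (2 * 2)) * ((2 * 2) * (2 * 2)) * Nat.card ↥Z3 ≤ Nat.card ↥X :=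
    E03.arith_step hc q1 hcard1
  apply Subgroup.eq_of_le_of_card_ge hXW
  rw [h.hcardW]
  calc 2 ^ 8 * Nat.card ↥Z3 = ((2 * 2) * (2 * 2)) * ((2 * 2) * (2 * 2)) * Nat.card ↥Z3 := by norm_num
    _ ≤ Nat.card ↥X := q0

end Cfsg.Agent.Lib.Helper12.RU4
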