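import Cfsg.Agent.Lib.Helper12.RU4.A01

/-! S3174 Part IV leaf E04 (EASY-MEDIUM): the subgroup generated by the `T`-conjugates of `w₀` and `Z3`.
RECIPE: the generating set is stable under every `cj · t` (`cj_cj`; `Z3` normal), so the closure is normal
(`Subgroup.closure_induction` on `n` for `t * n * t⁻¹`, or `Subgroup.normalClosure`-style lemma); generators lie in `W`
(`cj_mem_of_normal h.hWn`, `h.hZ3W`); `w₀ = cj w₀ 1`. -/

set_option autoImplicit false

namespace Cfsg.Agent.Lib.Helper12.RU4

variable {T : Type*} [Group T] {Z2 Z3 Y1 Y W T1 T2 : Subgroup T} {z s x : T}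

/-- the set of generators: all conjugates of `w0`, and `Z3`. -/
def gens (Z3 : Subgroup T) (w0 : T) : Set T := {c | ∃ t : T, c = cj w0 t} ∪ (Z3 : Set T)

theorem X_props (h : Cfg Z2 Z3 Y1 Y W T1 T2 z s x) {w0 : T} (hw0 : w0 ∈ W) :
    (Subgroup.closure (gens Z3 w0)).Normal ∧ Z3 ≤ Subgroup.closure (gens Z3 w0) ∧
      Subgroup.closure (gens Z3 w0) ≤ W ∧ w0 ∈ Subgroup.closure (gens Z3 w0) := by
  refine ⟨⟨?_⟩, ?_, ?_, ?_⟩
  · intro n hn t
    induction hn using Subgroup.closure_induction with
    | mem c hc =>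
      apply Subgroup.subset_closure
      rcases hc with ⟨u, rfl⟩ | hc
      · left
        refine ⟨u * t⁻¹, ?_⟩
        simp only [cj]; group
      · right
        exact h.hZ3n.conj_mem c hc t
    | one => simp
    | mul a b _ _ iha ihb =>
      have : t * (a * b) * t⁻¹ = (t * a * t⁻¹) * (t * b * t⁻¹) := by group
      rw [this]
      exact Subgroup.mul_mem _ iha ihb
    | inv a _ iha =>
      have : t * a⁻¹ * t⁻¹ = (t * a * t⁻¹)⁻¹ := by group
      rw [this]
      exact Subgroup.inv_mem _ iha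
  · intro c hc
    exact Subgroup.subset_closure (Or.inr hc)
  · rw [Subgroup.closure_le]
    rintro c (⟨u, rfl⟩ | hc)
    · exact cj_mem_of_normal h.hWn hw0 u
    · exact h.hZ3W hc
  · apply Subgroup.subset_closure
    left
    exact ⟨1, (cj_one_right w0).symm⟩

end Cfsg.Agent.Lib.Helper12.RU4
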