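import Cfsg.Agent.Lib.Helper12.RU4.D07

/-! S3174 Part IV leaf F01 (MEDIUM, blueprint IV.5 on generators): `B((w₀^g)^z, w₀^k) = B(w₀^g, w₀^k)`.
RECIPE: `cm_cj_mod` with `t := g⁻¹`: `cm (cj w₀ g) (cj w₀ k) ≡ cm w₀ (cj w₀ (k * g⁻¹))` (`cj_cj`, `mul_inv_cancel`, `cj_one_right`) and
`cm (cj (cj w₀ g) z) (cj w₀ k) = cm (cj w₀ (g*z)) (cj w₀ k) ≡ cm w₀ (cj w₀ (k * (g*z)⁻¹))` (with `t := (g*z)⁻¹`).
`k * (g*z)⁻¹ = k * z⁻¹ * g⁻¹ = (k * g⁻¹) * (g * z⁻¹ * g⁻¹)` and `g * z⁻¹ * g⁻¹ = z * u` with `u ∈ W` (`z⁻¹ = z * (z*z)⁻¹`,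
`z*z ∈ W`; `g * z * g⁻¹ = z * cm z g⁻¹`, `cm z g⁻¹ ∈ W` by `h.hT1c`; `W` normal), so by `beta_mul_right`
`β(k (g z)⁻¹) = β((k g⁻¹) z) ≡ β(k g⁻¹)` by `zshift`.  Bookkeeping in `Z3/Z2` with `Z2_inv_mul_iff`/`Z2_mul_iff`. -/

set_option autoImplicit false

namespace Cfsg.Agent.Lib.Helper12.RU4

variable {T : Type*} [Group T] {Z2 Z3 Y1 Y W T1 T2 : Subgroup T} {z s x : T}

theorem K_gen (h : Cfg Z2 Z3 Y1 Y W T1 T2 z s x) (hYc : ∀ y ∈ Y, ∀ w ∈ W, y * w = w * y)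
    {w0 : T} (hw0 : w0 ∈ W) (g k : T) :
    (cm (cj w0 g) (cj w0 k))⁻¹ * cm (cj (cj w0 g) z) (cj w0 k) ∈ Z2 := by
  have hgW : cj w0 g ∈ W := cj_mem_of_normal h.hWn hw0 g
  have hkW : cj w0 k ∈ W := cj_mem_of_normal h.hWn hw0 k
  have hgzW : cj (cj w0 g) z ∈ W := cj_mem_of_normal h.hWn hgW z
  -- first congruence
  have e1 := cm_cj_mod h hgW hkW g⁻¹
  have e1a : cj (cj w0 g) g⁻¹ = w0 := by unfold cj; group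
  have e1b : cj (cj w0 k) g⁻¹ = cj w0 (k * g⁻¹) := cj_cj w0 k g⁻¹
  rw [e1a, e1b] at e1
  -- second congruence
  have e2 := cm_cj_mod h hgzW hkW (g * z)⁻¹
  have e2a : cj (cj (cj w0 g) z) (g * z)⁻¹ = w0 := by unfold cj; group
  set u : T := (z * z)⁻¹ * cm z⁻¹ g⁻¹ with hu
  have huW : u ∈ W := by
    apply W.mul_mem
    · exact W.inv_mem (h.hT2sq z (h.hT12 h.hz))
    · exact h.hT1c z⁻¹ (T1.inv_mem h.hz) g⁻¹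
  have e2b : cj (cj w0 k) (g * z)⁻¹ = cj w0 (k * g⁻¹ * z * u) := by
    rw [cj_cj]
    congr 1
    rw [hu]; unfold cm; group
  rw [e2a, e2b, beta_mul_right h hw0 (k * g⁻¹ * z) huW] at e2
  -- the shift by `z`
  have e3 := zshift h hYc hw0 (k * g⁻¹)
  have key : (cm (cj w0 g) (cj w0 k))⁻¹ * cm (cj (cj w0 g) z) (cj w0 k) =
      ((cm (cj w0 g) (cj w0 k))⁻¹ * cm w0 (cj w0 (k * g⁻¹))) *
        ((cm w0 (cj w0 (k * g⁻¹)))⁻¹ * cm w0 (cj w0 (k * g⁻¹ * z))) *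
        ((cm (cj (cj w0 g) z) (cj w0 k))⁻¹ * cm w0 (cj w0 (k * g⁻¹ * z)))⁻¹ := by
    group
  rw [key]
  exact Z2.mul_mem (Z2.mul_mem e1 e3) (Z2.inv_mem e2)

end Cfsg.Agent.Lib.Helper12.RU4
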