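import Cfsg.Agent.Lib.Helper12.RU4.F01
import Cfsg.Agent.Lib.Helper12.RU4.E04
import Cfsg.Agent.Lib.Helper12.RU4.A03
import Cfsg.Agent.Lib.Helper12.RU4.A04

/-! S3174 Part IV leaf F02 (MEDIUM-HARD, blueprint IV.5 Claim K): `B(u^z, v) = B(u, v)` for all `u, v ∈ W`.
RECIPE: `P u v := (cm u v)⁻¹ * cm (cj u z) v ∈ Z2`.  For `u, v ∈ W` both `cm`'s are in `Z3` (abelian, exponent 2), and by
`cm_mul_left/right`, `cj_mul`: `P u v → P u' v → P (u*u') v`, `P u v → P u⁻¹ v` (`cm_inv_left`, `cj_inv`), `P 1 v`, same in `v`.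
Generators: `P (cj w₀ g) (cj w₀ k)` is `K_gen`; if `u ∈ Z3` or `v ∈ Z3` both commutators are `1` (`cm_Z3_left/right`; `cj u z ∈ Z3`).
Use `Subgroup.closure_induction` (in `u`, then in `v`) on `hspan : W ≤ closure (gens Z3 w0)`; keep the side condition `∈ W` in the
motive (the closure is `≤ W`: `X_props`). -/

set_option autoImplicit false

namespace Cfsg.Agent.Lib.Helper12.RU4

variable {T : Type*} [Group T] {Z2 Z3 Y1 Y W T1 T2 : Subgroup T} {z s x : T}

namespace F02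

theorem key (h : Cfg Z2 Z3 Y1 Y W T1 T2 z s x) {u v : T} (hu : u ∈ W) (hv : v ∈ W) :
    (cm u v)⁻¹ * cm (cj u z) v ∈ Z2 ↔ (cm u v ∈ Z2 ↔ cm (cj u z) v ∈ Z2) := by
  have hcu := cj_mem_of_normal h.hWn hu z
  rw [Z2_inv_mul_iff h (h.hcomm u hu v hv) (h.hcomm _ hcu v hv),
    Z2_mul_iff h (h.hcomm u hu v hv) (h.hcomm _ hcu v hv)]

theorem right_ind (h : Cfg Z2 Z3 Y1 Y W T1 T2 z s x) {S : Set T} (hS : Subgroup.closure S ≤ W)
    {u : T} (hu : u ∈ W) (hbase : ∀ c ∈ S, (cm u c ∈ Z2 ↔ cm (cj u z) c ∈ Z2)) :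
    ∀ v ∈ Subgroup.closure S, (cm u v ∈ Z2 ↔ cm (cj u z) v ∈ Z2) := by
  have hcu := cj_mem_of_normal h.hWn hu z
  intro v hv
  induction hv using Subgroup.closure_induction with
  | mem c hc => exact hbase c hc
  | one =>
    rw [cm_one_right, cm_one_right]
  | mul a b ha hb iha ihb =>
    have haW := hS ha
    have hbW := hS hb
    rw [cm_mul_right h hu haW hbW, cm_mul_right h hcu haW hbW,
      Z2_mul_iff h (h.hcomm u hu a haW) (h.hcomm u hu b hbW),
      Z2_mul_iff h (h.hcomm _ hcu a haW) (h.hcomm _ hcu b hbW)]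
    tauto
  | inv a ha iha =>
    have haW := hS ha
    rw [cm_inv_right h hu haW, cm_inv_right h hcu haW]
    exact iha

theorem left_ind (h : Cfg Z2 Z3 Y1 Y W T1 T2 z s x) {S : Set T} (hS : Subgroup.closure S ≤ W)
    {v : T} (hv : v ∈ W) (hbase : ∀ c ∈ S, (cm c v ∈ Z2 ↔ cm (cj c z) v ∈ Z2)) :
    ∀ u ∈ Subgroup.closure S, (cm u v ∈ Z2 ↔ cm (cj u z) v ∈ Z2) := by
  intro u hu
  induction hu using Subgroup.closure_induction with
  | mem c hc => exact hbase c hc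
  | one =>
    rw [cj_one_left, cm_one_left]
  | mul a b ha hb iha ihb =>
    have haW := hS ha
    have hbW := hS hb
    have hca := cj_mem_of_normal h.hWn haW z
    have hcb := cj_mem_of_normal h.hWn hbW z
    rw [cj_mul, cm_mul_left h haW hbW hv, cm_mul_left h hca hcb hv,
      Z2_mul_iff h (h.hcomm a haW v hv) (h.hcomm b hbW v hv),
      Z2_mul_iff h (h.hcomm _ hca v hv) (h.hcomm _ hcb v hv)]
    tauto
  | inv a ha iha =>
    have haW := hS ha
    have hca := cj_mem_of_normal h.hWn haW z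
    rw [cj_inv, cm_inv_left h haW hv, cm_inv_left h hca hv]
    exact iha

end F02

theorem K_all (h : Cfg Z2 Z3 Y1 Y W T1 T2 z s x) (hYc : ∀ y ∈ Y, ∀ w ∈ W, y * w = w * y)
    {w0 : T} (hw0 : w0 ∈ W) (hspan : W ≤ Subgroup.closure (gens Z3 w0)) :
    ∀ u ∈ W, ∀ v ∈ W, (cm u v)⁻¹ * cm (cj u z) v ∈ Z2 := by
  obtain ⟨-, -, hXW, -⟩ := X_props h hw0
  have hone : (1 : T) ∈ Z2 := Z2.one_mem
  -- generators against generators
  have hgg : ∀ c ∈ gens Z3 w0, ∀ c' ∈ gens Z3 w0, (cm c c' ∈ Z2 ↔ cm (cj c z) c' ∈ Z2) := by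
    intro c hc c' hc'
    have hcW : c ∈ W := hXW (Subgroup.subset_closure hc)
    have hc'W : c' ∈ W := hXW (Subgroup.subset_closure hc')
    have hccW := cj_mem_of_normal h.hWn hcW z
    rcases hc with ⟨g, rfl⟩ | hc
    · rcases hc' with ⟨k, rfl⟩ | hc'
      · exact (F02.key h hcW hc'W).mp (K_gen h hYc hw0 g k)
      · rw [cm_Z3_right h hcW hc', cm_Z3_right h hccW hc']
    · have hcc : cj c z ∈ Z3 := cj_mem_of_normal h.hZ3n hc z
      rw [cm_Z3_left h hc hc'W, cm_Z3_left h hcc hc'W]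
  -- generators against everything
  have hgv : ∀ c ∈ gens Z3 w0, ∀ v ∈ W, (cm c v ∈ Z2 ↔ cm (cj c z) v ∈ Z2) := by
    intro c hc v hv
    have hcW : c ∈ W := hXW (Subgroup.subset_closure hc)
    exact F02.right_ind h hXW hcW (hgg c hc) v (hspan hv)
  intro u hu v hv
  rw [F02.key h hu hv]
  exact F02.left_ind h hXW hv (fun c hc => hgv c hc v hv) u (hspan hu)

end Cfsg.Agent.Lib.Helper12.RU4
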