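import Cfsg.Agent.Lib.Helper12.RU4.A03

/-! S3174 Part IV leaf F03 (EASY): `[[u,z],v] ∈ Z2` from Claim K.
`cm u z = u⁻¹ * cj u z` (`cm_eq`), `cm (u⁻¹ * cj u z) v = cm u⁻¹ v * cm (cj u z) v` (`cm_mul_left`) `= cm u v * cm (cj u z) v`
(`cm_inv_left`), and `(cm u v)⁻¹ = cm u v` (`inv_eq_self_of_mem_Z3`). -/

set_option autoImplicit false

namespace Cfsg.Agent.Lib.Helper12.RU4

variable {T : Type*} [Group T] {Z2 Z3 Y1 Y W T1 T2 : Subgroup T} {z s x : T}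

theorem K_cor (h : Cfg Z2 Z3 Y1 Y W T1 T2 z s x)
    (hK : ∀ u ∈ W, ∀ v ∈ W, (cm u v)⁻¹ * cm (cj u z) v ∈ Z2) :
    ∀ u ∈ W, ∀ v ∈ W, cm (cm u z) v ∈ Z2 := by
  intro u hu v hv
  have hcj : cj u z ∈ W := cj_mem_of_normal h.hWn hu z
  have hui : u⁻¹ ∈ W := W.inv_mem hu
  rw [cm_eq u z, cm_mul_left h hui hcj hv, cm_inv_left h hu hv,
    ← inv_eq_self_of_mem_Z3 h (h.hcomm u hu v hv)]
  exact hK u hu v hv

end Cfsg.Agent.Lib.Helper12.RU4
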