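import Cfsg.Agent.Lib.Helper12.RU4.D01

/-! S3174 Part IV leaf G01 (MEDIUM, blueprint IV.6): the elements of `Y1 = [W,z] Z3` have squares in `Z2` and commute with `W`
modulo `Z2`.
RECIPE: `u ∈ Y1`: `h.hY1` and `h.hE1` give `u' ∈ W`, `c := (cm u' z)⁻¹ * u ∈ Z3`, i.e. `u = cm u' z * c`.
`Y1_comm`: `cm (cm u' z * c) v = cm (cm u' z) v * cm c v = cm (cm u' z) v` (`cm_mul_left`, `cm_Z3_left`), in `Z2` by `hK`.
`Y1_sq`: `(a*c)*(a*c) = a*a` for `a ∈ W`, `c ∈ Z3` central of exponent 2.  `a = cm u' z = u'⁻¹ * cj u' z`;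
`sq_mul`: `a*a = u'⁻¹*u'⁻¹ * (cj u' z * cj u' z) * cm (cj u' z) u'⁻¹`; `cj u' z * cj u' z = cj (u'*u') z`, `u'*u' ∈ Z3`, so
`≡ u'*u' mod Z2` (`cj_Z3_mod`); `cm (cj u' z) u'⁻¹ = cm u' (cj u' z)` up to `cm_swap`/`cm_inv_right`, in `Z2` by `diag_T2`
(`z ∈ T2`).  Everything is in the abelian group `Z3`. -/

set_option autoImplicit false

namespace Cfsg.Agent.Lib.Helper12.RU4

variable {T : Type*} [Group T] {Z2 Z3 Y1 Y W T1 T2 : Subgroup T} {z s x : T}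

namespace G01

/-- every `u ∈ Y1` is `cm u' z * c` with `u' ∈ W`, `c ∈ Z3`. -/
theorem Y1_decomp (h : Cfg Z2 Z3 Y1 Y W T1 T2 z s x) {u : T} (hu : u ∈ Y1) :
    ∃ u' ∈ W, ∃ c ∈ Z3, u = cm u' z * c := by
  obtain ⟨huW, hu1⟩ := (h.hY1 u).mp hu
  obtain ⟨u', hu'W, hc⟩ := h.hE1 u huW hu1
  refine ⟨u', hu'W, (cm u' z)⁻¹ * u, hc, ?_⟩
  group

end G01

theorem Y1_sq (h : Cfg Z2 Z3 Y1 Y W T1 T2 z s x) : ∀ u ∈ Y1, u * u ∈ Z2 := by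
  intro u hu
  obtain ⟨u', hu'W, c, hc, rfl⟩ := G01.Y1_decomp h hu
  have haW : cm u' z ∈ W := cm_mem_of_normal h.hWn hu'W z
  have hcW : c ∈ W := h.hZ3W hc
  have h1 : (cm u' z * c) * (cm u' z * c) = cm u' z * cm u' z := by
    rw [sq_mul h haW hcW, h.hZ3sq c hc, cm_Z3_left h hc haW, mul_one, mul_one]
  rw [h1]
  have hpW : u'⁻¹ ∈ W := W.inv_mem hu'W
  have hqW : cj u' z ∈ W := cj_mem_of_normal h.hWn hu'W z
  have h2 : cm u' z * cm u' z =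
      u'⁻¹ * u'⁻¹ * (cj u' z * cj u' z) * cm (cj u' z) u'⁻¹ := by
    rw [cm_eq, sq_mul h hpW hqW]
  rw [h2]
  have hd : u' * u' ∈ Z3 := h.hsq u' hu'W
  have h3 : u'⁻¹ * u'⁻¹ * (cj u' z * cj u' z) = (u' * u')⁻¹ * cj (u' * u') z := by
    rw [cj_mul]; group
  have h4 : u'⁻¹ * u'⁻¹ * (cj u' z * cj u' z) ∈ Z2 := by
    rw [h3]; exact cj_Z3_mod h hd z
  have h5 : cm (cj u' z) u'⁻¹ ∈ Z2 := by
    rw [cm_inv_right h hqW hu'W, cm_swap h hu'W hqW]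
    exact diag_T2 h hu'W (h.hT12 h.hz)
  exact Z2.mul_mem h4 h5

theorem Y1_comm (h : Cfg Z2 Z3 Y1 Y W T1 T2 z s x)
    (hK : ∀ u ∈ W, ∀ v ∈ W, cm (cm u z) v ∈ Z2) : ∀ u ∈ Y1, ∀ v ∈ W, cm u v ∈ Z2 := by
  intro u hu v hv
  obtain ⟨u', hu'W, c, hc, rfl⟩ := G01.Y1_decomp h hu
  have haW : cm u' z ∈ W := cm_mem_of_normal h.hWn hu'W z
  have hcW : c ∈ W := h.hZ3W hc
  rw [cm_mul_left h haW hcW hv, cm_Z3_left h hc hv, mul_one]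
  exact hK u' hu'W v hv

end Cfsg.Agent.Lib.Helper12.RU4
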