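import Cfsg.Agent.Lib.Helper12.RU4.A03
import Cfsg.Agent.Lib.Helper12.RU4.A04

/-! S3174 Part IV leaf H01 (MEDIUM, blueprint IV.7, the 3-variable lemma; pure class-2 calculus): among the seven non-trivial
products of `n₁, n₂, n₃ ∈ W` one has its square in `Z2`.
RECIPE: `q n := n*n ∈ Z3` (`h.hsq`), `b m n := cm m n ∈ Z3`.  `sq_mul`: `q (m*n) = q m * q n * b n m`.  Suppose none of the seven
squares is in `Z2`.  From `q n₁, q n₂, q(n₁n₂) ∉ Z2`: `b n₂ n₁ ∉ Z2` (`Z2_mul_iff`/`Z2_of_two`: in `Z3/Z2` of order 2,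
`1 = 1 + 1 + b`), similarly `b n₃ n₁, b n₃ n₂ ∉ Z2`; then `q(n₁n₂n₃) = q(n₁n₂) q(n₃) b(n₃, n₁n₂)`,
`b(n₃, n₁ n₂) = b n₃ n₁ * b n₃ n₂ ∈ Z2` (`cm_mul_right`, `Z2_of_two`) and `q(n₁n₂) q(n₃) ∈ Z2` (`Z2_of_two`): contradiction. -/

set_option autoImplicit false

namespace Cfsg.Agent.Lib.Helper12.RU4

variable {T : Type*} [Group T] {Z2 Z3 Y1 Y W T1 T2 : Subgroup T} {z s x : T}

theorem exists_sq_mem (h : Cfg Z2 Z3 Y1 Y W T1 T2 z s x) {n1 n2 n3 : T} (h1 : n1 ∈ W) (h2 : n2 ∈ W)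
    (h3 : n3 ∈ W) :
    n1 * n1 ∈ Z2 ∨ n2 * n2 ∈ Z2 ∨ n3 * n3 ∈ Z2 ∨ (n1 * n2) * (n1 * n2) ∈ Z2 ∨
      (n1 * n3) * (n1 * n3) ∈ Z2 ∨ (n2 * n3) * (n2 * n3) ∈ Z2 ∨
      (n1 * n2 * n3) * (n1 * n2 * n3) ∈ Z2 := by
  by_contra hcon
  simp only [not_or] at hcon
  obtain ⟨g1, g2, g3, g12, g13, g23, g123⟩ := hcon
  -- the key step: from `q a, q b, q (a*b) ∉ Z2` get `cm b a ∉ Z2`
  have key : ∀ {a b : T}, a ∈ W → b ∈ W → a * a ∉ Z2 → b * b ∉ Z2 → (a * b) * (a * b) ∉ Z2 →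
      cm b a ∉ Z2 := by
    intro a b ha hb hqa hqb hqab hcm
    apply hqab
    rw [sq_mul h ha hb]
    have hqq : a * a * (b * b) ∈ Z2 := Z2_of_two h (h.hsq a ha) (h.hsq b hb) hqa hqb
    exact Z2.mul_mem hqq hcm
  have c21 : cm n2 n1 ∉ Z2 := key h1 h2 g1 g2 g12
  have c31 : cm n3 n1 ∉ Z2 := key h1 h3 g1 g3 g13
  have c32 : cm n3 n2 ∉ Z2 := key h2 h3 g2 g3 g23
  apply g123
  have h12 : n1 * n2 ∈ W := W.mul_mem h1 h2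
  rw [sq_mul h h12 h3, cm_mul_right h h3 h1 h2]
  have e1 : n1 * n2 * (n1 * n2) * (n3 * n3) ∈ Z2 :=
    Z2_of_two h (h.hsq _ h12) (h.hsq _ h3) g12 g3
  have e2 : cm n3 n1 * cm n3 n2 ∈ Z2 :=
    Z2_of_two h (h.hcomm _ h3 _ h1) (h.hcomm _ h3 _ h2) c31 c32
  exact Z2.mul_mem e1 e2

end Cfsg.Agent.Lib.Helper12.RU4
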