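import Cfsg.Agent.Lib.Helper12.RU4.A03

/-! S3174 Part IV leaf H02 (MEDIUM-HARD, counting): three elements of `W` independent modulo `Y1`.
`Nat.card W = 2^8 * Nat.card Z3 = 16 * Nat.card Y1` (`h.hcardW`, `h.hcardY1`); `Y1 ≤ W` (`h.hY1`), and `Z3 ≤ Y1` (`h.hY1`: `cm c y ∈ Z3` as
`Z3` is normal).  `W/Y1` is elementary abelian: for `a ∈ W`, `A := Y1 ⊔ zpowers a` has at most `2 |Y1|` elements... RECIPE: for a
subgroup `A` with `Y1 ≤ A ≤ W` and `a ∈ W`: the set `A ∪ aA` is a subgroup (`a*a ∈ Z3 ≤ A`, `W' ≤ Z3 ≤ A` so `A ⊴ W`), of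
order `≤ 2 |A|`.  Choose `n₁ ∈ W ∖ Y1` (orders differ), `A₁ = Y1 ∪ n₁Y1` (order `≤ 2|Y1| < |W|`), `n₂ ∈ W ∖ A₁`,
`A₂ = A₁ ∪ n₂A₁` (order `≤ 4|Y1| < |W|`), `n₃ ∈ W ∖ A₂`.  Then none of the seven products is in `Y1` (each such membership would put
`n₂ ∈ A₁` or `n₃ ∈ A₂`, using `n_i² ∈ Z3 ≤ Y1` and `Y1 ⊴ W`). -/

set_option autoImplicit false

namespace Cfsg.Agent.Lib.Helper12.RU4

variable {T : Type*} [Group T] {Z2 Z3 Y1 Y W T1 T2 : Subgroup T} {z s x : T}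

namespace H02

/-- a set of size `< |W|` misses an element of `W`. -/
theorem exists_not_mem [Finite T] (W : Subgroup T) (S : Set T)
    (hlt : S.ncard < Nat.card ↥W) : ∃ n ∈ W, n ∉ S := by
  have h1 : (W : Set T).ncard = Nat.card ↥W := by
    rw [← Nat.card_coe_set_eq]; rfl
  rw [← h1] at hlt
  obtain ⟨e, he, he'⟩ := Set.exists_mem_notMem_of_ncard_lt_ncard hlt (Set.toFinite S)
  exact ⟨e, he, he'⟩

theorem ncard_union_smul_le [Finite T] (S : Set T) (n : T) :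
    (S ∪ (fun y => n * y) '' S).ncard ≤ 2 * S.ncard := by
  have h1 := Set.ncard_union_le S ((fun y => n * y) '' S)
  have h2 := Set.ncard_image_le (f := fun y => n * y) (Set.toFinite S)
  omega

end H02

theorem exists_three [Finite T] (h : Cfg Z2 Z3 Y1 Y W T1 T2 z s x) :
    ∃ n1 ∈ W, ∃ n2 ∈ W, ∃ n3 ∈ W, n1 ∉ Y1 ∧ n2 ∉ Y1 ∧ n3 ∉ Y1 ∧ n1 * n2 ∉ Y1 ∧ n1 * n3 ∉ Y1 ∧
      n2 * n3 ∉ Y1 ∧ n1 * n2 * n3 ∉ Y1 := by
  classical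
  have hZ3n := h.hZ3n
  have hZ3Y1 : Z3 ≤ Y1 := by
    intro c hc
    rw [h.hY1]
    refine ⟨h.hZ3W hc, fun y _ => ?_⟩
    have h1 : y⁻¹ * c * y ∈ Z3 := by
      have := hZ3n.conj_mem c hc y⁻¹
      simpa using this
    have h2 : cm c y = c⁻¹ * (y⁻¹ * c * y) := by unfold cm; group
    rw [h2]
    exact Z3.mul_mem (Z3.inv_mem hc) h1
  have hsqinv : ∀ n ∈ W, (n * n)⁻¹ ∈ Y1 := fun n hn => hZ3Y1 (Z3.inv_mem (h.hsq n hn))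
  have hY1pos : 0 < Nat.card ↥Y1 := Nat.card_pos
  have hWY1 : Nat.card ↥W = 16 * Nat.card ↥Y1 := by
    rw [h.hcardW, h.hcardY1]; ring
  have hY1card : (Y1 : Set T).ncard = Nat.card ↥Y1 := by
    rw [← Nat.card_coe_set_eq]; rfl
  -- n1
  obtain ⟨n1, hn1W, hn1⟩ := H02.exists_not_mem W (Y1 : Set T) (by rw [hY1card, hWY1]; omega)
  -- S1
  obtain ⟨S1, hS1⟩ : ∃ S1 : Set T, S1 = (Y1 : Set T) ∪ (fun y => n1 * y) '' (Y1 : Set T) := ⟨_, rfl⟩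
  have hS1card : S1.ncard ≤ 2 * Nat.card ↥Y1 := by
    have := H02.ncard_union_smul_le (Y1 : Set T) n1
    rw [hY1card] at this
    rw [hS1]
    exact this
  obtain ⟨n2, hn2W, hn2⟩ := H02.exists_not_mem W S1 (by rw [hWY1]; omega)
  obtain ⟨S2, hS2⟩ : ∃ S2 : Set T, S2 = S1 ∪ (fun y => n2 * y) '' S1 := ⟨_, rfl⟩
  have hS2card : S2.ncard ≤ 4 * Nat.card ↥Y1 := by
    have := H02.ncard_union_smul_le S1 n2
    rw [hS2]
    omega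
  obtain ⟨n3, hn3W, hn3⟩ := H02.exists_not_mem W S2 (by rw [hWY1]; omega)
  have hY1S1 : ∀ y ∈ Y1, y ∈ S1 := fun y hy => by rw [hS1]; exact Or.inl hy
  have hn1S1 : ∀ y ∈ Y1, n1 * y ∈ S1 := fun y hy => by rw [hS1]; exact Or.inr ⟨y, hy, rfl⟩
  have hS1S2 : ∀ y ∈ S1, y ∈ S2 := fun y hy => by rw [hS2]; exact Or.inl hy
  have hn2S2 : ∀ y ∈ S1, n2 * y ∈ S2 := fun y hy => by rw [hS2]; exact Or.inr ⟨y, hy, rfl⟩
  refine ⟨n1, hn1W, n2, hn2W, n3, hn3W, hn1, fun hh => hn2 (hY1S1 _ hh),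
    fun hh => hn3 (hS1S2 _ (hY1S1 _ hh)), ?_, ?_, ?_, ?_⟩
  · intro hh
    apply hn2
    have : n2 = n1 * ((n1 * n1)⁻¹ * (n1 * n2)) := by group
    rw [this]
    exact hn1S1 _ (Y1.mul_mem (hsqinv n1 hn1W) hh)
  · intro hh
    apply hn3
    have : n3 = n1 * ((n1 * n1)⁻¹ * (n1 * n3)) := by group
    rw [this]
    exact hS1S2 _ (hn1S1 _ (Y1.mul_mem (hsqinv n1 hn1W) hh))
  · intro hh
    apply hn3
    have : n3 = n2 * ((n2 * n2)⁻¹ * (n2 * n3)) := by group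
    rw [this]
    exact hn2S2 _ (hY1S1 _ (Y1.mul_mem (hsqinv n2 hn2W) hh))
  · intro hh
    apply hn3
    -- n3 = n2 * (n1 * y') with y' ∈ Y1
    have hc2 : n1⁻¹ * (n2 * n2)⁻¹ * n1 ∈ Z3 := by
      have := hZ3n.conj_mem _ (Z3.inv_mem (h.hsq n2 hn2W)) n1⁻¹
      simpa using this
    have : n3 = n2 * (n1 * ((n1⁻¹ * (n2 * n2)⁻¹ * n1) * ((n1 * n1)⁻¹ * (n1 * n2 * n3)))) := by group
    rw [this]
    exact hn2S2 _ (hn1S1 _ (Y1.mul_mem (hZ3Y1 hc2) (Y1.mul_mem (hsqinv n1 hn1W) hh)))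

end Cfsg.Agent.Lib.Helper12.RU4
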