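import Cfsg.Agent.Lib.Helper12.RU4.A03

/-! S3174 Part IV leaf H03 (MEDIUM, blueprint IV.7): the subgroup `U = Y1 ⊔ ⟨n⟩` of index `≤ 8` with all squares and commutators in `Z2`.
RECIPE: every element of `U` is `u` or `n*u` with `u ∈ Y1` (`n*n ∈ Z2 ≤ Z3 ≤ Y1`; `Y1` is normalized by `n` because
`W' ≤ Z3 ≤ Y1`): prove `∀ g ∈ U, g ∈ Y1 ∨ n⁻¹ * g ∈ Y1` by `Subgroup.closure_induction`/`Subgroup.sup_induction`-style, or
build the subgroup with carrier `Y1 ∪ nY1` and show `U ≤` it.  Squares: `sq_mul`: `(n*u)*(n*u) = n*n*(u*u)*cm u n ∈ Z2`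
(`hsq1`, `hc1`).  Commutators: `cm_mul_left/right`, `cm_self`, `cm_swap`, `hc1`.  Index: `Y1 < U` (`n ∈ U ∖ Y1`) so
`Nat.card U ≥ 2 * Nat.card Y1` (Lagrange), and `Nat.card W = 16 * Nat.card Y1` (`h.hcardW`, `h.hcardY1`).  `Z2 ≤ Z3 ≤ Y1 ≤ U`. -/

set_option autoImplicit false

namespace Cfsg.Agent.Lib.Helper12.RU4

variable {T : Type*} [Group T] {Z2 Z3 Y1 Y W T1 T2 : Subgroup T} {z s x : T}

theorem U_props [Finite T] (h : Cfg Z2 Z3 Y1 Y W T1 T2 z s x) (hsq1 : ∀ u ∈ Y1, u * u ∈ Z2)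
    (hc1 : ∀ u ∈ Y1, ∀ v ∈ W, cm u v ∈ Z2) {n : T} (hn : n ∈ W) (hnY1 : n ∉ Y1) (hn2 : n * n ∈ Z2) :
    Y1 ⊔ Subgroup.zpowers n ≤ W ∧ Nat.card ↥W ≤ 8 * Nat.card ↥(Y1 ⊔ Subgroup.zpowers n) ∧
      Z2 ≤ Y1 ⊔ Subgroup.zpowers n ∧ (∀ u ∈ Y1 ⊔ Subgroup.zpowers n, u * u ∈ Z2) ∧
      (∀ u ∈ Y1 ⊔ Subgroup.zpowers n, ∀ v ∈ Y1 ⊔ Subgroup.zpowers n, cm u v ∈ Z2) := by
  have hY1W : Y1 ≤ W := fun w hw => ((h.hY1 w).mp hw).1
  have hzpW : Subgroup.zpowers n ≤ W := by
    rw [Subgroup.zpowers_le]; exact hn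
  have hUW : Y1 ⊔ Subgroup.zpowers n ≤ W := sup_le hY1W hzpW
  have hZ3Y1 : Z3 ≤ Y1 := by
    intro c hc
    rw [h.hY1]
    exact ⟨h.hZ3W hc, fun y _ => cm_mem_of_normal h.hZ3n hc y⟩
  have hUcl : Y1 ⊔ Subgroup.zpowers n = Subgroup.closure ((Y1 : Set T) ∪ (Subgroup.zpowers n : Set T)) :=
    Subgroup.sup_eq_closure Y1 (Subgroup.zpowers n)
  -- commutators, first variable
  have hR : ∀ u ∈ Y1 ⊔ Subgroup.zpowers n, ∀ v ∈ W, (v ∈ Y1 ∨ v ∈ Subgroup.zpowers n) → cm u v ∈ Z2 := by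
    intro u hu
    rw [hUcl] at hu
    induction hu using Subgroup.closure_induction with
    | mem u hu =>
      intro v hvW hv
      rcases hu with hu | hu
      · exact hc1 u hu v hvW
      · rcases hv with hv | hv
        · rw [cm_swap h hvW (hzpW hu)]
          exact hc1 v hv u (hzpW hu)
        · obtain ⟨i, rfl⟩ := Subgroup.mem_zpowers_iff.mp hu
          obtain ⟨j, rfl⟩ := Subgroup.mem_zpowers_iff.mp hv
          have : cm (n ^ i) (n ^ j) = 1 := by
            simp only [cm]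
            have hcomm : n ^ i * n ^ j = n ^ j * n ^ i := (Commute.zpow_zpow_self n i j).eq
            calc (n ^ i)⁻¹ * (n ^ j)⁻¹ * n ^ i * n ^ j = (n ^ i)⁻¹ * (n ^ j)⁻¹ * (n ^ i * n ^ j) := by group
              _ = (n ^ i)⁻¹ * (n ^ j)⁻¹ * (n ^ j * n ^ i) := by rw [hcomm]
              _ = 1 := by group
          rw [this]; exact Z2.one_mem
    | one =>
      intro v _ _
      rw [cm_one_left]; exact Z2.one_mem
    | mul a b ha hb iha ihb =>
      intro v hvW hv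
      rw [← hUcl] at ha hb
      rw [cm_mul_left h (hUW ha) (hUW hb) hvW]
      exact Z2.mul_mem (iha v hvW hv) (ihb v hvW hv)
    | inv a ha iha =>
      intro v hvW hv
      rw [← hUcl] at ha
      rw [cm_inv_left h (hUW ha) hvW]
      exact iha v hvW hv
  have hC : ∀ u ∈ Y1 ⊔ Subgroup.zpowers n, ∀ v ∈ Y1 ⊔ Subgroup.zpowers n, cm u v ∈ Z2 := by
    intro u hu v hv
    have huW : u ∈ W := hUW hu
    rw [hUcl] at hv
    induction hv using Subgroup.closure_induction with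
    | mem v hv =>
      rcases hv with hv | hv
      · exact hR u hu v (hY1W hv) (Or.inl hv)
      · exact hR u hu v (hzpW hv) (Or.inr hv)
    | one => rw [cm_one_right]; exact Z2.one_mem
    | mul a b ha hb iha ihb =>
      rw [← hUcl] at ha hb
      rw [cm_mul_right h huW (hUW ha) (hUW hb)]
      exact Z2.mul_mem iha ihb
    | inv a ha iha =>
      rw [← hUcl] at ha
      rw [cm_inv_right h huW (hUW ha)]
      exact iha
  have hS : ∀ u ∈ Y1 ⊔ Subgroup.zpowers n, u * u ∈ Z2 := by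
    intro u hu
    rw [hUcl] at hu
    induction hu using Subgroup.closure_induction with
    | mem u hu =>
      rcases hu with hu | hu
      · exact hsq1 u hu
      · obtain ⟨i, rfl⟩ := Subgroup.mem_zpowers_iff.mp hu
        have : n ^ i * n ^ i = (n * n) ^ i := by
          rw [← zpow_add, ← two_mul, zpow_mul, zpow_two]
        rw [this]
        exact Z2.zpow_mem hn2 i
    | one => simp
    | mul a b ha hb iha ihb =>
      rw [← hUcl] at ha hb
      rw [sq_mul h (hUW ha) (hUW hb)]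
      exact Z2.mul_mem (Z2.mul_mem iha ihb) (hC b hb a ha)
    | inv a ha iha =>
      have : a⁻¹ * a⁻¹ = (a * a)⁻¹ := by group
      rw [this]; exact Z2.inv_mem iha
  refine ⟨hUW, ?_, ?_, hS, hC⟩
  · -- index
    have hle : Y1 ≤ Y1 ⊔ Subgroup.zpowers n := le_sup_left
    obtain ⟨k, hk⟩ := Subgroup.card_dvd_of_le hle
    have hpos : 0 < Nat.card ↥Y1 := Nat.card_pos
    have hposU : 0 < Nat.card ↥(Y1 ⊔ Subgroup.zpowers n) := Nat.card_pos
    have hk2 : 2 ≤ k := by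
      by_contra hlt
      have hk01 : k = 0 ∨ k = 1 := by omega
      rcases hk01 with rfl | rfl
      · rw [mul_zero] at hk; omega
      · rw [mul_one] at hk
        have heq : Y1 = Y1 ⊔ Subgroup.zpowers n :=
          Subgroup.eq_of_le_of_card_ge hle (le_of_eq hk)
        apply hnY1
        rw [heq]
        exact (le_sup_right : Subgroup.zpowers n ≤ _) (Subgroup.mem_zpowers n)
    have h1 := h.hcardW
    have h2 := h.hcardY1
    rw [hk, h1]
    have : 2 ^ 8 * Nat.card ↥Z3 = 16 * Nat.card ↥Y1 := by rw [h2]; ring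
    rw [this]
    nlinarith
  · exact (h.hZ23.trans hZ3Y1).trans le_sup_left

end Cfsg.Agent.Lib.Helper12.RU4
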