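import Cfsg.Agent.Lib.Helper12.RU4.A01
import Cfsg.Agent.Lib.Helper17.Frattini

/-! S3174 Part IV leaf H04 (MEDIUM, pure): if `N ≤ U`, and all squares and commutators of `U` lie in `N`, then `Φ(U) ≤ N`.
RECIPE: `N` is normal in `U` (`u⁻¹ n u = n * cm n u`) and `U/N` is an elementary abelian 2-group.  It suffices that every
`g ∈ U ∖ N` lies outside some maximal subgroup of `U` (`frattini` = `Order.radical` = inf of coatoms: `frattini_le_coatom`): by
finiteness choose `M` maximal among the subgroups `N ≤ M ≤ U` with `g ∉ M`; `M` has index 2 in `U` (if `a ∈ U ∖ M` then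
`M ∪ aM` is a subgroup containing `M` properly, so it contains `g`: `g ∈ aM`; hence `U = M ∪ gM`), so it is a coatom.
Alternatively: `U/N` elementary abelian ⇒ `frattini (U ⧸ N) = ⊥`, and `frattini` maps into the frattini of a quotient.
Work in the group `↥U` with the subgroup `N.subgroupOf U`; search the tree for existing lemmas (`grep -rn frattini Cfsg/Agent/Lib`). -/

set_option autoImplicit false

namespace Cfsg.Agent.Lib.Helper12.RU4

variable {T : Type*} [Group T]

theorem frattini_map_le [Finite T] (U N : Subgroup T) (hNU : N ≤ U) (hsq : ∀ u ∈ U, u * u ∈ N)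
    (hc : ∀ u ∈ U, ∀ v ∈ U, cm u v ∈ N) : (frattini ↥U).map U.subtype ≤ N := by
  have : Fact (Nat.Prime 2) := ⟨Nat.prime_two⟩
  have hle : frattini ↥U ≤ N.subgroupOf U := by
    apply Cfsg.Agent.Lib.Helper17.frattini_le_of_pow_comm (p := 2) (N.subgroupOf U)
    · intro x
      rw [Subgroup.mem_subgroupOf]
      have := hsq x.1 x.2
      simpa [pow_two] using this
    · intro x y
      rw [Subgroup.mem_subgroupOf, commutatorElement_def]
      have := hc x⁻¹.1 x⁻¹.2 y⁻¹.1 y⁻¹.2
      have e : ((x * y * x⁻¹ * y⁻¹ : ↥U) : T) = cm (x⁻¹ : ↥U).1 (y⁻¹ : ↥U).1 := by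
        simp only [cm]
        push_cast
        group
      rw [e]
      exact this
  rintro _ ⟨u, hu, rfl⟩
  exact Subgroup.mem_subgroupOf.mp (hle hu)

end Cfsg.Agent.Lib.Helper12.RU4
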