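import Cfsg.Agent.Lib.Helper12.RU4.B03
import Cfsg.Agent.Lib.Helper12.RU4.E01
import Cfsg.Agent.Lib.Helper12.RU4.E03
import Cfsg.Agent.Lib.Helper12.RU4.F02
import Cfsg.Agent.Lib.Helper12.RU4.F03
import Cfsg.Agent.Lib.Helper12.RU4.G01
import Cfsg.Agent.Lib.Helper12.RU4.H01
import Cfsg.Agent.Lib.Helper12.RU4.H02
import Cfsg.Agent.Lib.Helper12.RU4.H03
import Cfsg.Agent.Lib.Helper12.RU4.H04

/-! S3174 Part IV (sub-architect helper12): assembly.  `Z(W) = Z3`. -/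

set_option autoImplicit false

namespace Cfsg.Agent.Lib.Helper12.RU4

variable {T : Type*} [Group T] {Z2 Z3 Y1 Y W T1 T2 : Subgroup T} {z s x : T}

/-- Blueprint Part IV: an element of `W` that is central in `W` lies in `Z3`. -/
theorem center_le [Finite T] (hT : IsPGroup 2 T) (h : Cfg Z2 Z3 Y1 Y W T1 T2 z s x) :
    ∀ c ∈ W, (∀ w ∈ W, c * w = w * c) → c ∈ Z3 := by
  intro c hc hcc
  by_contra hcZ
  have hYc := Y_central hT h ⟨c, hc, hcc, hcZ⟩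
  obtain ⟨w0, hw0, hw0n⟩ := exists_w0 h
  obtain ⟨hXn, hZ3X, hXW, hw0X⟩ := X_props h hw0
  have hX := span_eq h hw0 hw0n _ hXn hZ3X hXW hw0X
  have hspan : W ≤ Subgroup.closure (gens Z3 w0) := hX.ge
  have hK := K_all h hYc hw0 hspan
  have hK' := K_cor h hK
  have hsq1 := Y1_sq h
  have hc1 := Y1_comm h hK'
  obtain ⟨n1, h1, n2, h2, n3, h3, a1, a2, a3, a12, a13, a23, a123⟩ := exists_three h
  have hn : ∃ n ∈ W, n ∉ Y1 ∧ n * n ∈ Z2 := by
    rcases exists_sq_mem h h1 h2 h3 with q | q | q | q | q | q | q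
    · exact ⟨n1, h1, a1, q⟩
    · exact ⟨n2, h2, a2, q⟩
    · exact ⟨n3, h3, a3, q⟩
    · exact ⟨n1 * n2, W.mul_mem h1 h2, a12, q⟩
    · exact ⟨n1 * n3, W.mul_mem h1 h3, a13, q⟩
    · exact ⟨n2 * n3, W.mul_mem h2 h3, a23, q⟩
    · exact ⟨n1 * n2 * n3, W.mul_mem (W.mul_mem h1 h2) h3, a123, q⟩
  obtain ⟨n, hn, hnY1, hn2⟩ := hn
  obtain ⟨hUW, hUcard, hZ2U, hUsq, hUc⟩ := U_props h hsq1 hc1 hn hnY1 hn2
  have hfr := frattini_map_le _ Z2 hZ2U hUsq hUc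
  have hII := h.hII1 _ hUW hUcard
  obtain ⟨a, haZ3, haZ2, -⟩ := h.hZ32
  exact haZ2 (hfr (hII haZ3))

/-- `Z(W) = Z3` (the centre of the group `↥W`, mapped into `T`). -/
theorem center_map_eq [Finite T] (hT : IsPGroup 2 T) (h : Cfg Z2 Z3 Y1 Y W T1 T2 z s x) :
    (Subgroup.center ↥W).map W.subtype = Z3 := by
  apply le_antisymm
  · rintro _ ⟨c, hc, rfl⟩
    apply center_le hT h c.1 c.2
    intro w hw
    have := Subgroup.mem_center_iff.mp hc ⟨w, hw⟩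
    exact (congrArg Subtype.val this).symm
  · intro c hc
    refine ⟨⟨c, h.hZ3W hc⟩, ?_, rfl⟩
    refine Subgroup.mem_center_iff.mpr ?_
    intro w
    apply Subtype.ext
    exact (h.hZ3c c hc w.1 w.2).symm

end Cfsg.Agent.Lib.Helper12.RU4
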